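import Groth.Agent.Lib.UInvFG21.Prod
import Groth.Agent.Lib.UInvFG21.Torus
import Groth.Agent.Lib.TorPts21.Luna
import Groth.Agent.Lib.InvRing21.Semi

/-!
# Connected groups without subtori have nonzero invariants in every nonzero module
-/

set_option autoImplicit false
set_option linter.style.haveILetI false
set_option backward.isDefEq.respectTransparency.types false
universe u

open CategoryTheory Limits MonoidalCategory CartesianMonoidalCategory MonObj AlgebraicGeometry
open scoped TensorProduct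

noncomputable section

namespace Groth.Agent.UMod21

open InvRing21 TorPts21 UInvFG21

attribute [local instance] InvRing21.gamAlg BorelFix21.ptsTop

variable {k : Type u} [Field k] {G H : Over (Spec (CommRingCat.of k))} [GrpObj G] [GrpObj H] [IsAffine G.left]
  {M : Type u} [AddCommGroup M] [Module k M] (ρ : VecGrp.GMod G M)

omit [IsAffine G.left] in
/-- The action of a rational point is linear. -/
def actLin (g : VecGrp.pt k k ⟶ G) : M →ₗ[k] M :=
  (TensorProduct.lid k M).toLinearMap ∘ₗ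
    (((ρ.ρ k g).toLinearMap.restrictScalars k) ∘ₗ (TensorProduct.mk k k M 1))

omit [IsAffine G.left] in
theorem actLin_apply (g : VecGrp.pt k k ⟶ G) (a : M) : actLin ρ g a = ptAct ρ g a := rfl

/-- A matrix coefficient evaluated at a point. -/
theorem val_coef (z : VecGrp.pt k k ⟶ G) (ξ : Module.Dual k M) (a : M) : val z (coef ρ ξ a) = ξ (ptAct ρ z a) := by
  rw [← ctr_rho, rho_tmul, ctr_tmul, smul_eq_mul, _root_.mul_one]

/-- A finite dimensional subspace stable under the rational points containing a given element. -/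
theorem exists_finite_stableSub (s : Finset M) :
    ∃ W : Submodule k M, Module.Finite k W ∧ (∀ a ∈ s, a ∈ W) ∧
      ∀ (g : VecGrp.pt k k ⟶ G), ∀ w ∈ W, ptAct ρ g w ∈ W := by
  obtain ⟨W, hWf, hsW, hW⟩ := exists_stable_span ρ s
  refine ⟨W, hWf, hsW, fun g w hw => ?_⟩
  obtain ⟨n, c, v, hv, e⟩ := hW w hw k g
  rw [ptAct, e, map_sum]
  exact W.sum_mem fun a _ => by rw [TensorProduct.lid_tmul]; exact W.smul_mem _ (hv a)

variable [IsAlgClosed k] [IsAffine H.left] [Smooth H.hom] [ConnectedSpace H.left]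

/-- **Fixed vectors.** -/
theorem exists_fixed_of_stable (hH : Red.HasNoSubtorus k H) (i : H ⟶ G) [IsMonHom i] {W : Submodule k M}
    (hW : ∀ (h : VecGrp.pt k k ⟶ H), ∀ w ∈ W, ptAct ρ (h ≫ i) w ∈ W) (hne : W ≠ ⊥) :
    ∃ v ∈ W, v ≠ 0 ∧ v ∈ ρ.fixedUnder i := by
  obtain ⟨a, haW, ha0⟩ := W.ne_bot_iff.1 hne
  obtain ⟨W₀, hW₀f, haW₀, hW₀⟩ := exists_finite_stableSub ρ {a}
  haveI := hW₀f
  let W' : Submodule k M := W₀ ⊓ W
  haveI : FiniteDimensional k W' := Submodule.finiteDimensional_inf_left _ _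
  haveI : Nontrivial W' := ⟨⟨a, haW₀ a (Finset.mem_singleton_self a), haW⟩, 0, fun e => ha0 (congrArg Subtype.val e)⟩
  have hst : ∀ (h : VecGrp.pt k k ⟶ H), ∀ w ∈ W', actLin ρ (h ≫ i) w ∈ W' := fun h w hw =>
    ⟨hW₀ _ w hw.1, hW h w hw.2⟩
  let Rep : (VecGrp.pt k k ⟶ H) →* Module.End k W' :=
    { toFun := fun h => (actLin ρ (h ≫ i)).restrict (hst h)
      map_one' := LinearMap.ext fun w => Subtype.ext (by
        show actLin ρ ((1 : VecGrp.pt k k ⟶ H) ≫ i) w.1 = w.1
        rw [actLin_apply, MonObj.one_comp, ptAct_one])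
      map_mul' := fun x y => LinearMap.ext fun w => Subtype.ext (by
        show actLin ρ ((x * y) ≫ i) w.1 = actLin ρ (x ≫ i) (actLin ρ (y ≫ i) w.1)
        rw [actLin_apply, actLin_apply, actLin_apply, MonObj.mul_comp, ptAct_mul]) }
  have hcoef : ∀ (w : W') (φ : Module.Dual k W'), ∃ F : Γ(H.left, ⊤), ∀ h, φ (Rep h w) = val h F := fun w φ => by
    obtain ⟨ξ, hξ⟩ := φ.exists_extend
    refine ⟨i.left.appTop (coef ρ ξ w.1), fun h => ?_⟩
    rw [appTop_val, val_coef, ← hξ]
    rfl
  obtain ⟨N, hN⟩ := isSolvableGrp_of_hasNoSubtorus H hH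
  haveI := BorelFix21.preconnectedSpace_pts (G := H)
  obtain ⟨v, hv0, hv⟩ := BorelFix21.exists_eigvec (k := k) (V := W') N (hN _) BorelFix21.continuous_mul_left
    BorelFix21.continuous_mul_right BorelFix21.continuous_inv BorelFix21.continuous_commutator Rep
    fun w φ c => by
      obtain ⟨F, hF⟩ := hcoef w φ
      simp only [hF]
      exact BorelFix21.isClosed_val_eq F c
  choose δ hδ using hv
  obtain ⟨φ, hφ⟩ : ∃ φ : Module.Dual k W', φ v ≠ 0 := by
    by_contra! h
    exact hv0 ((Module.forall_dual_apply_eq_zero_iff k v).1 h)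
  obtain ⟨F, hF⟩ := hcoef v ((φ v)⁻¹ • φ)
  have hval : ∀ h, val h F = δ h := fun h => by
    rw [← hF, hδ, LinearMap.smul_apply, map_smul, smul_eq_mul, smul_eq_mul]
    field_simp
  have hmul : ∀ x y, δ (x * y) = δ x * δ y := fun x y => by
    refine smul_left_injective k hv0 (show δ (x * y) • v = (δ x * δ y) • v from ?_)
    rw [← hδ, map_mul, Module.End.mul_apply, hδ, map_smul, hδ, smul_smul, _root_.mul_comm]
  have hne' : ∀ x, val x F ≠ 0 := fun x h0 => by
    have h1 := hmul x x⁻¹
    rw [mul_inv_cancel, ← hval x, h0, MulZeroClass.zero_mul] at h1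
    refine hv0 ?_
    have := hδ 1
    rwa [map_one, Module.End.one_apply, h1, zero_smul] at this
  refine ⟨v.1, v.2.2, fun h => hv0 (Subtype.ext h), mem_fixedUnder_of_points ρ fun h => ?_⟩
  have h1 := eq_one_of_char hH F (fun x y => by rw [hval, hval, hval, hmul]) hne' h
  have := congrArg Subtype.val (hδ h)
  rw [← hval, h1, one_smul] at this
  exact this

end Groth.Agent.UMod21
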