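import Groth.Agent.Lib.BorelLam21.Main
import Groth.Agent.Lib.UMod21.Fixed

/-!
# Frames: a torus and a regular cocharacter adapted to a Borel subgroup
-/

set_option autoImplicit false
set_option linter.style.haveILetI false
set_option backward.isDefEq.respectTransparency.types false
universe u

open CategoryTheory Limits MonoidalCategory CartesianMonoidalCategory MonObj AlgebraicGeometry

noncomputable section

namespace Groth.Agent.UMod21

open MatGrp21 InvRing21 DiagGL TorPts21 BigCell21 BorelLam21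

attribute [local instance] InvRing21.gamAlg BorelFix21.ptsTop

variable {k : Type u} [Field k]

/-- A maximal torus, a matrix embedding and a regular cocharacter. -/
structure Frame (G : Over (Spec (CommRingCat.of k))) [GrpObj G] where
  /-- size of the matrices -/
  n : ℕ
  /-- rank -/
  d : ℕ
  /-- the torus -/
  T : Over (Spec (CommRingCat.of k))
  [grpT : GrpObj T]
  /-- its embedding -/
  iT : T ⟶ G
  /-- its characters -/
  C : Chars (Fin d → ℤ) T
  /-- the matrix embedding -/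
  r : G ⟶ GLs k n
  [homr : IsMonHom r]
  [closedr : IsClosedImmersion r.left]
  /-- the weights -/
  a : Fin n → Fin d → ℤ
  /-- the cocharacter -/
  b : Fin d → ℤ
  red : Red.IsReductiveOver k G
  maxT : AGF.IsMaxTorus iT
  diag : ∀ τ : VecGrp.pt k k ⟶ T, (mtxFn r (τ ≫ iT) : Matrix (Fin n) (Fin n) k) =
    Matrix.diagonal fun j => ptChr C τ (Multiplicative.ofAdd (a j))
  sep : ∀ i j, wt a b i = wt a b j → a i = a j

attribute [instance] Frame.grpT Frame.homr Frame.closedr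

variable {G : Over (Spec (CommRingCat.of k))} [GrpObj G] (F : Frame G)

/-- The opposite frame. -/
def Frame.neg : Frame G :=
  { F with
    b := -F.b
    sep := fun i j h => F.sep i j (by rw [wt_neg] at h; exact neg_injective h) }

/-- The contracted points. -/
def Frame.up : Subgroup (VecGrp.pt k k ⟶ G) := upPts F.r (wt F.a F.b)

variable [IsAlgClosed k] [IsAffine G.left] [Smooth G.hom] [ConnectedSpace G.left]

theorem Frame.torus_mem (τ : VecGrp.pt k k ⟶ F.T) : τ ≫ F.iT ∈ F.up :=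
  torus_mem_upPts F.C F.diag F.b τ _ rfl

/-- The points contracted to the identity. -/
def Frame.up₁ : Subgroup (VecGrp.pt k k ⟶ G) := upPts₁ F.r (wt F.a F.b)

theorem Frame.up₁_le {x : VecGrp.pt k k ⟶ G} (hx : x ∈ F.up₁) : x ∈ F.up := hx.1

theorem Frame.diag_up₁ {τ : VecGrp.pt k k ⟶ F.T} (h : τ ≫ F.iT ∈ F.up₁) : τ = 1 := by
  haveI := F.maxT.1
  haveI := F.maxT.2.1
  refine (cancel_mono F.iT).1 (mtxFn_injective F.r (Units.ext ?_))
  rw [MonObj.one_comp, ← mtx_apply F.r 1, map_one, Units.val_one]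
  ext i j
  by_cases e : i = j
  · subst e
    rw [h.2 i i rfl]
  · rw [F.diag, Matrix.diagonal_apply_ne _ e, Matrix.one_apply_ne e]

/-- The Levi decomposition of the contracted points. -/
theorem Frame.exists_torus_mul {x : VecGrp.pt k k ⟶ G} (hx : x ∈ F.up) :
    ∃ (τ : VecGrp.pt k k ⟶ F.T) (x₁ : VecGrp.pt k k ⟶ G), x₁ ∈ F.up₁ ∧ x = (τ ≫ F.iT) * x₁ := by
  haveI := F.maxT.1
  obtain ⟨lam, hlam⟩ := exists_lam F.C F.diag (r := F.r) (iT := F.iT) (a := F.a) F.b
  obtain ⟨z, -, -, hze⟩ := exists_curve_pt hlam hx isClosed_univ (fun s => Set.mem_univ _) 0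
  obtain ⟨τ, hτ⟩ := lim_mem_torus F.C F.red F.maxT F.diag F.sep x hx z hze
  refine ⟨τ, (τ ≫ F.iT)⁻¹ * x, ?_, (mul_inv_cancel_left _ _).symm⟩
  refine ⟨mul_mem (inv_mem (F.torus_mem τ)) hx, fun i j h => ?_⟩
  have hτinv : (τ ≫ F.iT)⁻¹ = τ⁻¹ ≫ F.iT := (GrpObj.inv_comp _ _).symm
  have h1 : ((mtx F.r ((τ ≫ F.iT)⁻¹ * x) : GL (Fin F.n) k) : Matrix (Fin F.n) (Fin F.n) k) i j =
      ((mtx F.r ((τ ≫ F.iT)⁻¹ * z) : GL (Fin F.n) k) : Matrix (Fin F.n) (Fin F.n) k) i j := by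
    rw [map_mul, map_mul, Units.val_mul, Units.val_mul, hτinv, mtx_apply F.r (τ⁻¹ ≫ F.iT), F.diag,
      Matrix.diagonal_mul, Matrix.diagonal_mul, mtx_apply, mtx_apply, hze,
      curveAt_zero_apply ((mem_upPts F.r).1 hx), if_pos h]
  rw [hτ, inv_mul_cancel, map_one, Units.val_one] at h1
  rw [hτ]
  exact h1

/-- Uniqueness of the Levi decomposition. -/
theorem Frame.torus_mul_unique {τ τ' : VecGrp.pt k k ⟶ F.T} {x x' : VecGrp.pt k k ⟶ G} (hx : x ∈ F.up₁)
    (hx' : x' ∈ F.up₁) (h : (τ ≫ F.iT) * x = (τ' ≫ F.iT) * x') : τ = τ' := by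
  haveI := F.maxT.1
  refine inv_mul_eq_one.1 (F.diag_up₁ (?_ : (τ⁻¹ * τ') ≫ F.iT ∈ F.up₁))
  rw [MonObj.mul_comp, GrpObj.inv_comp, show (τ ≫ F.iT)⁻¹ * (τ' ≫ F.iT) = x * x'⁻¹ by
    rw [inv_mul_eq_iff_eq_mul, ← _root_.mul_assoc, h, mul_inv_cancel_right]]
  exact mul_mem hx (inv_mem hx')

/-- The torus normalises the points contracted to the identity. -/
theorem Frame.conj_up₁ (τ : VecGrp.pt k k ⟶ F.T) {x : VecGrp.pt k k ⟶ G} (hx : x ∈ F.up₁) :
    (τ ≫ F.iT) * x * (τ ≫ F.iT)⁻¹ ∈ F.up₁ := by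
  haveI := F.maxT.1
  refine ⟨mul_mem (mul_mem (F.torus_mem τ) (F.up₁_le hx)) (inv_mem (F.torus_mem τ)), fun i j h => ?_⟩
  have hone : ptChr F.C τ (Multiplicative.ofAdd (F.a i)) * ptChr F.C τ⁻¹ (Multiplicative.ofAdd (F.a i)) = 1 := by
    have h1 := congrFun (congrFun (F.diag 1) i) i
    rw [MonObj.one_comp, ← mtx_apply F.r 1, map_one, Units.val_one, Matrix.one_apply_eq,
      Matrix.diagonal_apply_eq] at h1
    rw [← ptChr_mul, mul_inv_cancel]
    exact h1.symm
  rw [← mtx_apply, map_mul, map_mul, Units.val_mul, Units.val_mul, ← GrpObj.inv_comp, mtx_apply, mtx_apply,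
    mtx_apply, F.diag, F.diag, Matrix.mul_diagonal, Matrix.diagonal_mul, hx.2 i j h]
  by_cases e : i = j
  · subst e
    rw [Matrix.one_apply_eq, _root_.mul_one, hone]
  · rw [Matrix.one_apply_ne e, MulZeroClass.mul_zero, MulZeroClass.zero_mul]

theorem Frame.up₁_neg_neg : F.neg.neg.up₁ = F.up₁ := by
  show upPts₁ F.r (wt F.a (- -F.b)) = upPts₁ F.r (wt F.a F.b)
  rw [neg_neg]

/-- A Borel subgroup of contracted points. -/
theorem Frame.exists_borel : ∃ (B : Over (Spec (CommRingCat.of k))) (_ : GrpObj B) (iB : B ⟶ G),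
    Red.IsBorelOver k iB ∧ ∀ x : VecGrp.pt k k ⟶ G, (∃ y, y ≫ iB = x) ↔ x ∈ F.up :=
  exists_upBorel F.C F.red F.maxT F.diag F.sep

omit F in
set_option maxHeartbeats 800000 in
/-- A frame adapted to a Borel subgroup and a maximal torus in it. -/
theorem exists_frame (hG : Red.IsReductiveOver k G) {B T : Over (Spec (CommRingCat.of k))} [GrpObj B] [GrpObj T]
    {iB : B ⟶ G} (hB : Red.IsBorelOver k iB) (t : T ⟶ B) (hT : AGF.IsMaxTorus (t ≫ iB)) :
    ∃ F : Frame G, (∀ x, (∃ y, y ≫ iB = x) ↔ x ∈ F.up) ∧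
      ∀ τ₀ : VecGrp.pt k k ⟶ T, ∃ τ : VecGrp.pt k k ⟶ F.T, τ ≫ F.iT = τ₀ ≫ t ≫ iB := by
  classical
  set iT := t ≫ iB with hiT
  haveI := hT.1
  haveI := hT.2.1
  obtain ⟨hTa, hTs, hTc, -⟩ := props_of_isTorus hT.2.2.1
  haveI := hTa
  haveI := hTs
  haveI := hTc
  haveI := isClosedImmersion_of_torus hT.2.2.1 iT
  obtain ⟨n, r₀, hr₀, hr₀c⟩ := GrassAct21.exists_embedding_GL G
  haveI := hr₀
  haveI := hr₀c
  obtain ⟨d, ⟨C⟩⟩ := exists_chars hT.2.2.1
  obtain ⟨P, a, ha⟩ := exists_weights C (iT ≫ r₀)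
  obtain ⟨zP, hzP⟩ := mtxFn_surjective P
  obtain ⟨P', hP'⟩ := exists_gpt zP
  let r : G ⟶ GLs k n := AGF.conjBy P' r₀
  haveI : IsMonHom r := isMonHom_conjBy P' r₀
  haveI : IsClosedImmersion r.left := isClosedImmersion_conjBy P' r₀
  have hdiag : ∀ τ : VecGrp.pt k k ⟶ T, (mtxFn r (τ ≫ iT) : Matrix (Fin n) (Fin n) k) =
      Matrix.diagonal fun j => ptChr C τ (Multiplicative.ofAdd (a j)) := fun τ => by
    have h1 := mtxFn_conjBy (𝟙 (GLs k n)) P' r₀ (τ ≫ iT)
    rw [Category.comp_id, Category.comp_id, hP', hzP] at h1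
    rw [h1, ← mtxFn_comp iT r₀ τ]
    exact ha τ
  obtain ⟨b, hb⟩ := exists_pairing_ne_zero
    ((Finset.univ.image fun p : Fin n × Fin n => a p.1 - a p.2).filter (· ≠ 0)) fun v hv => (Finset.mem_filter.1 hv).2
  have hsep : ∀ i j, wt a b i = wt a b j → a i = a j := fun i j h => by
    by_contra hne
    refine hb (a i - a j) (Finset.mem_filter.2 ⟨Finset.mem_image.2 ⟨(i, j), Finset.mem_univ _, rfl⟩,
      sub_ne_zero.2 hne⟩) ?_
    rw [← wt_sub]
    exact sub_eq_zero.2 h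
  obtain ⟨B₀, _, iB₀, hB₀, hB₀pts⟩ := exists_upBorel C hG hT hdiag hsep
  haveI := hB₀.2.1
  obtain ⟨t₀, ht₀⟩ := exists_lift_of_pts iB₀ iT fun τ => (hB₀pts _).2 (torus_mem_upPts C hdiag b τ _ rfl)
  obtain ⟨g, f, f', hf, hf'⟩ := TorPts21.exists_conj_pair (B := B₀) (B' := B) iB₀ iB hB₀ hB hT hT t₀ ht₀ t rfl
  haveI := isMonHom_conjBy g iT
  haveI : IsMonHom f'.hom := BorelFix21.isMonHom_of_comp iT f'.hom (hf'.symm ▸ inferInstance)
  let C' : Chars (Fin d → ℤ) T :=
    { ch := fun {X} x => C.ch (x ≫ f'.inv)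
      nat := fun {X X'} s x c => by rw [Category.assoc]; exact C.nat s (x ≫ f'.inv) c
      mul := fun {X} x y c => by
        rw [← C.mul]
        congr 2
        rw [← cancel_mono f'.hom, MonObj.mul_comp]
      inj := fun {X x y} h => (cancel_mono f'.inv).1 (C.inj h)
      surj := fun {X} c => by
        obtain ⟨x, hx⟩ := C.surj c
        exact ⟨x ≫ f'.hom, by rw [Category.assoc, Iso.hom_inv_id, Category.comp_id]; exact hx⟩ }
  let c : G ⟶ G := AGF.conjBy g⁻¹ (𝟙 G)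
  haveI : IsMonHom c := isMonHom_conjBy g⁻¹ (𝟙 G)
  haveI : IsClosedImmersion (𝟙 G : G ⟶ G).left := inferInstanceAs (IsClosedImmersion (𝟙 G.left))
  haveI : IsClosedImmersion c.left := isClosedImmersion_conjBy g⁻¹ (𝟙 G)
  haveI : IsClosedImmersion (c ≫ r).left := by rw [Over.comp_left]; infer_instance
  have hc : ∀ x : VecGrp.pt k k ⟶ G, x ≫ c = (gpt g)⁻¹ * x * gpt g := fun x => by
    show x ≫ AGF.conjBy g⁻¹ (𝟙 G) = _
    rw [comp_conjBy, Category.comp_id, GrpObj.comp_inv, inv_inv]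
    rfl
  have hgB : ∀ y : VecGrp.pt k k ⟶ B₀, (y ≫ f.hom) ≫ iB = gpt g * (y ≫ iB₀) * (gpt g)⁻¹ := fun y => by
    rw [Category.assoc, hf, comp_conjBy]; rfl
  refine ⟨{ n := n, d := d, T := T, iT := iT, C := C', r := c ≫ r, a := a, b := b, red := hG, maxT := hT
            diag := fun τ => ?_, sep := hsep }, fun x => ?_, fun τ₀ => ⟨τ₀, rfl⟩⟩
  · rw [mtxFn_comp, hc]
    have h1 : τ ≫ iT = gpt g * ((τ ≫ f'.inv) ≫ iT) * (gpt g)⁻¹ := by
      have h2 : ((τ ≫ f'.inv) ≫ f'.hom) ≫ iT = gpt g * ((τ ≫ f'.inv) ≫ iT) * (gpt g)⁻¹ := by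
        rw [Category.assoc (τ ≫ f'.inv), hf', comp_conjBy]; rfl
      simpa using h2
    rw [h1, show (gpt g)⁻¹ * (gpt g * ((τ ≫ f'.inv) ≫ iT) * (gpt g)⁻¹) * gpt g = (τ ≫ f'.inv) ≫ iT by group, hdiag]
    rfl
  · show _ ↔ IsUp (wt a b) (mtxFn (c ≫ r) x : Matrix (Fin n) (Fin n) k)
    rw [mtxFn_comp, hc]
    constructor
    · rintro ⟨y, rfl⟩
      refine (hB₀pts _).1 ⟨y ≫ f.inv, ?_⟩
      have h1 := hgB (y ≫ f.inv)
      rw [show (y ≫ f.inv) ≫ f.hom = y by simp] at h1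
      rw [h1]
      group
    · intro hx
      obtain ⟨y, hy⟩ := (hB₀pts _).2 hx
      exact ⟨y ≫ f.hom, by rw [hgB, hy]; group⟩

omit F in
/-- A Borel subgroup contains a maximal torus. -/
theorem exists_maxTorus_in {B : Over (Spec (CommRingCat.of k))} [GrpObj B] {iB : B ⟶ G}
    (hB : Red.IsBorelOver k iB) :
    ∃ (T : Over (Spec (CommRingCat.of k))) (_ : GrpObj T) (t : T ⟶ B), AGF.IsMaxTorus (t ≫ iB) := by
  obtain ⟨T, _, iT, hT⟩ := exists_maxTorus G
  haveI := hT.1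
  haveI := hT.2.1
  obtain ⟨B₁, _, iB₁, t₁, hB₁, ht₁⟩ := exists_borel_containing iT hT.2.2.1
  obtain ⟨g, φ, hφ⟩ := BorelFix21.exists_conjBy iB₁ iB hB₁ hB
  refine ⟨T, inferInstance, t₁ ≫ φ.hom, ?_⟩
  rw [Category.assoc, hφ, show t₁ ≫ AGF.conjBy g iB₁ = AGF.conjBy g iT by
    rw [comp_conjBy, ht₁]]
  exact isMaxTorus_conjBy hT g

/-- The unipotent radical of the Borel subgroup consists of the points contracted to the identity. -/
theorem Frame.range_radical {B U : Over (Spec (CommRingCat.of k))} [GrpObj B] [GrpObj U] {iB : B ⟶ G} {u : U ⟶ B}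
    (hB : Red.IsBorelOver k iB) (hU : Par.IsUnipotentRadical u) (hpts : ∀ x, (∃ y, y ≫ iB = x) ↔ x ∈ F.up)
    (x : VecGrp.pt k k ⟶ G) : (∃ q : VecGrp.pt k k ⟶ U, q ≫ u ≫ iB = x) ↔ x ∈ F.up₁ := by
  classical
  obtain ⟨hBm, hBc, hBs, hBn, hBsol, -⟩ := id hB
  haveI := hBm
  haveI := hBc
  haveI := hBs
  haveI := hBn
  haveI := F.maxT.1
  haveI : IsAffine B.left := isAffine_of_isAffineHom iB.left
  haveI : Mono iB := Over.mono_of_mono_left iB
  obtain ⟨hum, huc, -, hus, -, hun, huns, hmax⟩ := (isUnipotentRadical_iff u).1 hU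
  haveI := hum
  haveI := huc
  haveI := hus
  haveI := hun
  haveI : IsAffine U.left := isAffine_of_isAffineHom u.left
  constructor
  · rintro ⟨q, rfl⟩
    have hup : ∀ p : VecGrp.pt k k ⟶ U, p ≫ u ≫ iB ∈ F.up := fun p => (hpts _).1 ⟨p ≫ u, Category.assoc _ _ _⟩
    refine ⟨hup q, fun i j h => ?_⟩
    obtain ⟨τ, x₁, hx₁, e⟩ := F.exists_torus_mul (hup q)
    have hdiag : ∀ (y : VecGrp.pt k k ⟶ U) l l', wt F.a F.b l = wt F.a F.b l' → l ≠ l' →
        (mtxFn F.r (y ≫ u ≫ iB) : Matrix (Fin F.n) (Fin F.n) k) l l' = 0 := fun y l l' hl hne => by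
      obtain ⟨τ, x₁, hx₁, e⟩ := F.exists_torus_mul (hup y)
      rw [e, ← mtx_apply, map_mul, Units.val_mul, mtx_apply, F.diag, Matrix.diagonal_mul, mtx_apply,
        hx₁.2 l l' hl, Matrix.one_apply_ne hne, MulZeroClass.mul_zero]
    by_cases hij : i = j
    · subst hij
      rw [Matrix.one_apply_eq]
      have hent : ∀ v : VecGrp.pt k k ⟶ U, val v ((u ≫ iB).left.appTop (DiagGL.mat F.r i i)) =
          (mtxFn F.r (v ≫ u ≫ iB) : Matrix (Fin F.n) (Fin F.n) k) i i := fun v => by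
        rw [appTop_val, coe_mtxFn, mtxMat, DiagGL.mat_comp]; rfl
      have hmul : ∀ x y : VecGrp.pt k k ⟶ U,
          (mtxFn F.r ((x * y) ≫ u ≫ iB) : Matrix (Fin F.n) (Fin F.n) k) i i =
            (mtxFn F.r (x ≫ u ≫ iB) : Matrix (Fin F.n) (Fin F.n) k) i i *
              (mtxFn F.r (y ≫ u ≫ iB) : Matrix (Fin F.n) (Fin F.n) k) i i := fun x y => by
        rw [MonObj.mul_comp x y (u ≫ iB), ← mtx_apply, map_mul, Units.val_mul, Matrix.mul_apply,
          Finset.sum_eq_single i]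
        · rfl
        · intro l _ hl
          rcases lt_trichotomy (wt F.a F.b i) (wt F.a F.b l) with h' | h' | h'
          · rw [mtx_apply, show (mtxFn F.r (x ≫ u ≫ iB) : Matrix (Fin F.n) (Fin F.n) k) i l = 0 from hup x i l h',
              MulZeroClass.zero_mul]
          · rw [mtx_apply, hdiag x i l h' (Ne.symm hl), MulZeroClass.zero_mul]
          · rw [mtx_apply F.r (y ≫ u ≫ iB),
              show (mtxFn F.r (y ≫ u ≫ iB) : Matrix (Fin F.n) (Fin F.n) k) l i = 0 from hup y l i h',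
              MulZeroClass.mul_zero]
        · simp
      have hone : (mtxFn F.r ((1 : VecGrp.pt k k ⟶ U) ≫ u ≫ iB) : Matrix (Fin F.n) (Fin F.n) k) i i = 1 := by
        rw [MonObj.one_comp, ← mtx_apply, map_one, Units.val_one, Matrix.one_apply_eq]
      rw [← hent]
      refine eq_one_of_char huns _ (fun x y => by rw [hent, hent, hent, hmul]) (fun y h0 => ?_) q
      have h1 := hmul y y⁻¹
      rw [mul_inv_cancel, hone, ← hent, h0, MulZeroClass.zero_mul] at h1
      exact one_ne_zero h1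
    · rw [Matrix.one_apply_ne hij]
      exact hdiag q i j h hij
  · intro hx
    obtain ⟨V, _, j, hjm, hjc, hjs, hrange, hVpts⟩ :=
      exists_closed_subgroup_of_pts F.up₁ (isClosed_upPts₁ _)
    haveI := hjm
    haveI := hjc
    haveI := hjs
    haveI : IsAffine V.left := isAffine_of_isAffineHom j.left
    haveI : IsClosedImmersion (j ≫ F.r).left := by rw [Over.comp_left]; infer_instance
    haveI : ConnectedSpace V.left := by
      obtain ⟨lam, hlam⟩ := exists_lam F.C F.diag (r := F.r) (iT := F.iT) (a := F.a) F.b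
      have hpre : IsPreconnected (F.up₁ : Set (VecGrp.pt k k ⟶ G)) := by
        refine (isClosedEmbedding_mtxFn F.r).isInducing.isPreconnected_image.1 (isPreconnected_of_forall 1 ?_)
        rintro _ ⟨y, hy, rfl⟩
        refine ⟨{g | ∃ s, (g : Matrix (Fin F.n) (Fin F.n) k) =
            (curve (wt F.a F.b) (mtxFn F.r y : Matrix (Fin F.n) (Fin F.n) k)).map (Polynomial.eval s)}, ?_, ⟨0, ?_⟩,
          ⟨1, (curveAt_one _ _).symm⟩,
          isPreconnected_curve _ fun s => exists_curveGL ((mem_upPts F.r).1 (F.up₁_le hy)) s⟩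
        · rintro g ⟨s, hs⟩
          obtain ⟨z, hzK, -, hz⟩ := exists_curve_pt hlam (F.up₁_le hy) (isClosed_upPts₁ _)
            (fun s => F.conj_up₁ (lam s) hy) s
          exact ⟨z, hzK, Units.ext (hz.trans hs.symm)⟩
        · rw [Units.val_one]
          ext a b
          show (1 : Matrix (Fin F.n) (Fin F.n) k) a b = curveAt (wt F.a F.b) _ 0 a b
          rw [curveAt_zero_apply ((mem_upPts F.r).1 (F.up₁_le hy))]
          split_ifs with e
          · exact (hy.2 a b e).symm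
          · exact Matrix.one_apply_ne fun e' => e (congrArg _ e')
      have h1 : _root_.IsConnected (Set.range j.left) := by
        rw [hrange]
        exact ⟨(Set.Nonempty.image _ ⟨1, one_mem F.up₁⟩).closure,
          (hpre.image InvRing21.img continuous_induced_dom.continuousOn).closure⟩
      exact j.left.isClosedEmbedding.isEmbedding.toHomeomorph.symm.connectedSpace_iff.1
        (isConnected_iff_connectedSpace.1 h1)
    have hns : Red.HasNoSubtorus k V := hasNoSubtorus_of_unip (j ≫ F.r) fun x => by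
      rw [mtx_comp, mtx_apply]
      exact isUnip_of_isUp₁ ((hVpts _).1 ⟨x, rfl⟩)
    obtain ⟨v, hv⟩ := exists_lift_of_pts iB j fun y => (hpts _).2 (F.up₁_le ((hVpts _).1 ⟨y, rfl⟩))
    haveI : IsMonHom v := BorelFix21.isMonHom_of_comp iB v (hv.symm ▸ hjm)
    haveI : IsClosedImmersion (v.left ≫ iB.left) := by rw [← Over.comp_left, hv]; infer_instance
    haveI : IsClosedImmersion v.left := IsClosedImmersion.of_comp v.left iB.left
    obtain ⟨U₁, _, u₁, hU₁, hall⟩ := exists_unipotentRadical B hBsol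
    obtain ⟨hum₁, huc₁, hunorm₁, hus₁, huq₁, hun₁, huns₁, -⟩ := (isUnipotentRadical_iff u₁).1 hU₁
    haveI := hum₁
    obtain ⟨h₁, hh₁⟩ := hall V v inferInstance inferInstance inferInstance hns
    obtain ⟨l, hl⟩ := hmax U₁ u₁ huc₁ hunorm₁ hus₁ huq₁ hun₁ huns₁
    obtain ⟨y, rfl⟩ := (hVpts x).2 hx
    exact ⟨y ≫ h₁ ≫ l, by simp only [Category.assoc]; rw [reassoc_of% hl, reassoc_of% hh₁, hv]⟩

end Groth.Agent.UMod21
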