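import Groth.Agent.Lib.UMod21.Weights

/-!
# The filtration by the highest degree
-/

set_option autoImplicit false
set_option linter.style.haveILetI false
set_option backward.isDefEq.respectTransparency.types false
universe u

open CategoryTheory Limits MonoidalCategory CartesianMonoidalCategory MonObj AlgebraicGeometry Polynomial

noncomputable section

namespace Groth.Agent.UMod21

open MatGrp21 InvRing21 DiagGL TorPts21 BigCell21 BorelLam21 UInvFG21

attribute [local instance] InvRing21.gamAlg BorelFix21.ptsTop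

variable {k : Type u} [Field k] [IsAlgClosed k] {G : Over (Spec (CommRingCat.of k))} [GrpObj G] [IsAffine G.left]
  [Smooth G.hom] [ConnectedSpace G.left] (F : Frame G)

omit [IsAlgClosed k] [IsAffine G.left] [Smooth G.hom] [ConnectedSpace G.left] in
instance Frame.homT : IsMonHom F.iT := F.maxT.1

/-- The degree of a character. -/
def Frame.deg (ω : Multiplicative (Fin F.d → ℤ)) : ℤ := TorPts21.pairing ω.toAdd F.b

omit [IsAlgClosed k] [IsAffine G.left] [Smooth G.hom] [ConnectedSpace G.left] in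
theorem Frame.deg_mul (ω ν : Multiplicative (Fin F.d → ℤ)) : F.deg (ω * ν) = F.deg ω + F.deg ν := by
  simp only [Frame.deg, TorPts21.pairing, toAdd_mul, Pi.add_apply, add_mul, Finset.sum_add_distrib]

omit [IsAlgClosed k] [IsAffine G.left] [Smooth G.hom] [ConnectedSpace G.left] in
theorem Frame.deg_one : F.deg 1 = 0 := by simp [Frame.deg, TorPts21.pairing]

omit [IsAlgClosed k] [IsAffine G.left] [Smooth G.hom] [ConnectedSpace G.left] in
theorem Frame.deg_neg (ω : Multiplicative (Fin F.d → ℤ)) : F.neg.deg ω = -F.deg ω := by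
  simp only [Frame.deg, Frame.neg, TorPts21.pairing, Pi.neg_apply, mul_neg, Finset.sum_neg_distrib]
  rfl

omit [IsAffine G.left] [Smooth G.hom] [ConnectedSpace G.left] in
/-- The cocharacter. -/
theorem Frame.exists_cochar : ∃ lam : kˣ → (VecGrp.pt k k ⟶ F.T),
    (∀ s ω, ptChr F.C (lam s) ω = ((s ^ F.deg ω : kˣ) : k)) ∧ IsLam F.r (wt F.a F.b) fun s => lam s ≫ F.iT := by
  choose lam hlam using fun s : kˣ => exists_ptChr F.C
    ({ toFun := fun ω => ((s ^ F.deg ω : kˣ) : k)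
       map_one' := by rw [F.deg_one, zpow_zero, Units.val_one]
       map_mul' := fun ω ν => by rw [F.deg_mul, zpow_add, Units.val_mul] } : Multiplicative (Fin F.d → ℤ) →* k)
  refine ⟨lam, fun s ω => by rw [hlam]; rfl, fun s => ?_⟩
  rw [F.diag]
  show _ = Matrix.diagonal _
  congr 1
  funext j
  rw [hlam]
  rfl

omit [IsAlgClosed k] in
/-- A polynomial agreeing with a monomial. -/
theorem of_eval_eq_zpow [Infinite k] {q : k[X]} {c : k} {e : ℤ}
    (h : ∀ s : kˣ, q.eval (s : k) = c * ((s ^ e : kˣ) : k)) : (e < 0 → c = 0) ∧ (e = 0 → q.eval 0 = c) := by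
  refine ⟨fun he => ?_, fun he => ?_⟩
  · obtain ⟨m, rfl⟩ : ∃ m : ℕ, e = -((m + 1 : ℕ) : ℤ) := ⟨(-e - 1).toNat, by omega⟩
    have hq : q * X ^ (m + 1) = C c := by
      refine eq_of_infinite_eval_eq _ _ ((Set.finite_singleton (0 : k)).infinite_compl.mono fun s hs => ?_)
      have h1 := h (Units.mk0 s hs)
      rw [zpow_neg, zpow_natCast, Units.val_inv_eq_inv_val, Units.val_pow_eq_pow_val, Units.val_mk0] at h1
      show eval s _ = eval s _
      rw [eval_mul, eval_pow, eval_X, eval_C, h1, _root_.mul_assoc, inv_mul_cancel₀ (pow_ne_zero _ hs),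
        _root_.mul_one]
    have := congrArg (fun p => coeff p 0) hq
    simpa [coeff_mul_X_pow'] using this.symm
  · subst he
    have hq : q = C c := eq_of_infinite_eval_eq _ _
      ((Set.finite_singleton (0 : k)).infinite_compl.mono fun s hs => by
        show eval s _ = eval s _
        rw [eval_C]
        simpa using h (Units.mk0 s hs))
    rw [hq, eval_C]

variable {M : Type u} [AddCommGroup M] [Module k M] (ρ : VecGrp.GMod G M)

/-- A component, as a linear map. -/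
def Frame.comp (ν : Multiplicative (Fin F.d → ℤ)) : M →ₗ[k] M := (Finsupp.lapply ν).comp (wc F.iT F.C ρ)

theorem Frame.comp_apply (ν : Multiplicative (Fin F.d → ℤ)) (v : M) : F.comp ρ ν v = wc F.iT F.C ρ v ν := rfl

set_option maxHeartbeats 800000 in
/-- Contracted points raise the degree. -/
theorem Frame.raise {ω : Multiplicative (Fin F.d → ℤ)} {v : M}
    (hv : ∀ τ : VecGrp.pt k k ⟶ F.T, ptAct ρ (τ ≫ F.iT) v = ptChr F.C τ ω • v) {x : VecGrp.pt k k ⟶ G}
    (hx : x ∈ F.up₁) (ν : Multiplicative (Fin F.d → ℤ)) :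
    (F.deg ν < F.deg ω → wc F.iT F.C ρ (ptAct ρ x v) ν = 0) ∧
      (F.deg ν = F.deg ω → wc F.iT F.C ρ (ptAct ρ x v) ν = wc F.iT F.C ρ v ν) := by
  obtain ⟨lam, hchr, hlam⟩ := F.exists_cochar
  suffices H : ∀ ξ : Module.Dual k M,
      (F.deg ν < F.deg ω → ξ (wc F.iT F.C ρ (ptAct ρ x v) ν) = 0) ∧
        (F.deg ν = F.deg ω → ξ (wc F.iT F.C ρ (ptAct ρ x v) ν) = ξ (wc F.iT F.C ρ v ν)) by
    refine ⟨fun h => (Module.forall_dual_apply_eq_zero_iff k _).1 fun ξ => (H ξ).1 h, fun h => sub_eq_zero.1 ?_⟩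
    refine (Module.forall_dual_apply_eq_zero_iff k _).1 fun ξ => ?_
    rw [map_sub, (H ξ).2 h, sub_self]
  intro ξ
  set f := coef ρ (ξ.comp (F.comp ρ ν)) v with hf
  obtain ⟨a, ha⟩ := exists_eq_appTop F.r f
  have hval : ∀ z : VecGrp.pt k k ⟶ G, val z f = evalGL (mtxFn F.r z) a := fun z => by
    rw [← ha]; exact val_eq_evalGL F.r z a
  set N := (mtxFn F.r x : Matrix (Fin F.n) (Fin F.n) k) with hN
  have hdet : N.det ≠ 0 := (Matrix.isUnit_iff_isUnit_det _).1 (mtxFn F.r x).isUnit |>.ne_zero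
  obtain ⟨q, hq⟩ := exists_poly_of_isReg (isReg_evalGL (n := F.n) a) (curve (wt F.a F.b) N) N.det hdet
  have hup : IsUp (wt F.a F.b) N := F.up₁_le hx
  have hconj : ∀ s : kˣ, q.eval (s : k) = ξ (wc F.iT F.C ρ (ptAct ρ x v) ν) *
      ((s ^ (F.deg ν - F.deg ω) : kˣ) : k) := fun s => by
    rw [← hq (mtxFn F.r ((lam s ≫ F.iT) * x * (lam s ≫ F.iT)⁻¹)) s (conj_lam hlam (F.up₁_le hx) s)
      (by rw [conj_lam hlam (F.up₁_le hx) s]; exact det_curveAt hup _), ← hval, hf, val_coef]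
    show ξ (wc F.iT F.C ρ _ ν) = _
    have hinv : ptChr F.C (lam s)⁻¹ ω = ((s ^ (-F.deg ω) : kˣ) : k) := by
      have h1 := ptChr_mul F.C (lam s)⁻¹ (lam s) ω
      rw [inv_mul_cancel, ptChr_one, hchr] at h1
      rw [zpow_neg, Units.val_inv_eq_inv_val]
      exact eq_inv_of_mul_eq_one_left h1.symm
    rw [ptAct_mul, ptAct_mul, ← GrpObj.inv_comp, hv, ← actLin_apply ρ x, map_smul, actLin_apply, ← actLin_apply,
      map_smul, actLin_apply, map_smul, Finsupp.smul_apply, wc_torus, hchr, hinv, map_smul, map_smul, smul_eq_mul,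
      smul_eq_mul, sub_eq_add_neg, zpow_add, Units.val_mul]
    ring
  have h0 : q.eval 0 = ξ (wc F.iT F.C ρ v ν) := by
    have h1 : curveAt (wt F.a F.b) N 0 = ((1 : GL (Fin F.n) k) : Matrix (Fin F.n) (Fin F.n) k) := by
      rw [Units.val_one]
      ext i j
      rw [curveAt_zero_apply hup]
      split_ifs with e
      · exact hx.2 i j e
      · exact (Matrix.one_apply_ne fun e' => e (congrArg _ e')).symm
    rw [← hq 1 0 h1.symm (by rw [← h1]; exact det_curveAt hup _), ← map_one (mtx F.r), mtx_apply, ← hval, hf,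
      val_coef, ptAct_one]
    rfl
  obtain ⟨h1, h2⟩ := of_eval_eq_zpow hconj
  exact ⟨fun h => h1 (by omega), fun h => by rw [← h2 (by omega), h0]⟩

/-- Opposite contracted points lower the degree. -/
theorem Frame.lower {ω : Multiplicative (Fin F.d → ℤ)} {v : M}
    (hv : ∀ τ : VecGrp.pt k k ⟶ F.T, ptAct ρ (τ ≫ F.iT) v = ptChr F.C τ ω • v) {x : VecGrp.pt k k ⟶ G}
    (hx : x ∈ F.neg.up₁) (ν : Multiplicative (Fin F.d → ℤ)) :
    (F.deg ω < F.deg ν → wc F.iT F.C ρ (ptAct ρ x v) ν = 0) ∧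
      (F.deg ν = F.deg ω → wc F.iT F.C ρ (ptAct ρ x v) ν = wc F.iT F.C ρ v ν) := by
  have h := F.neg.raise ρ hv hx ν
  rw [F.deg_neg, F.deg_neg] at h
  exact ⟨fun h' => h.1 (by omega), fun h' => h.2 (by omega)⟩

/-- Opposite contracted points preserve the top of a vector of bounded degree. -/
theorem Frame.lower_of_bound {m : ℤ} {v : M} (hv : ∀ ν, m < F.deg ν → wc F.iT F.C ρ v ν = 0)
    {x : VecGrp.pt k k ⟶ G} (hx : x ∈ F.neg.up₁) (ν : Multiplicative (Fin F.d → ℤ)) (hν : m ≤ F.deg ν) :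
    wc F.iT F.C ρ (ptAct ρ x v) ν = wc F.iT F.C ρ v ν := by
  classical
  have hsum : ((wc F.iT F.C ρ v).sum fun _ y => y) = v := sum_wc F.iT F.C ρ v
  have e : ∀ T : M →ₗ[k] M, T v = (wc F.iT F.C ρ v).sum fun _ y => T y := fun T => by
    conv_lhs => rw [← hsum]
    rw [map_finsuppSum]
  show F.comp ρ ν (actLin ρ x v) = F.comp ρ ν v
  rw [← LinearMap.comp_apply, e ((F.comp ρ ν).comp (actLin ρ x)), e (F.comp ρ ν)]
  refine Finset.sum_congr rfl fun ω hω => ?_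
  have hle : F.deg ω ≤ m := not_lt.1 fun h => Finsupp.mem_support_iff.1 hω (hv ω h)
  have hl := F.lower ρ (act_wc F.iT F.C ρ v ω) hx ν
  rcases lt_or_eq_of_le (hle.trans hν) with h | h
  · show wc F.iT F.C ρ (ptAct ρ x (wc F.iT F.C ρ v ω)) ν = wc F.iT F.C ρ (wc F.iT F.C ρ v ω) ν
    rw [hl.1 h, wc_wc, Finsupp.single_eq_of_ne]
    rintro rfl
    exact lt_irrefl _ h
  · exact hl.2 h.symm

/-- The vectors all of whose translates have degree at most `m`. -/
def Frame.fil (m : ℤ) : Submodule k M :=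
  ⨅ (g : VecGrp.pt k k ⟶ G) (ν : Multiplicative (Fin F.d → ℤ)) (_ : m < F.deg ν),
    LinearMap.ker ((F.comp ρ ν).comp (actLin ρ g))

theorem Frame.mem_fil {m : ℤ} {v : M} :
    v ∈ F.fil ρ m ↔ ∀ g ν, m < F.deg ν → wc F.iT F.C ρ (ptAct ρ g v) ν = 0 := by
  simp only [Frame.fil, Submodule.mem_iInf, LinearMap.mem_ker, LinearMap.comp_apply, actLin_apply, Frame.comp_apply]

theorem Frame.fil_bound {m : ℤ} {v : M} (hv : v ∈ F.fil ρ m) (ν : Multiplicative (Fin F.d → ℤ)) (h : m < F.deg ν) :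
    wc F.iT F.C ρ v ν = 0 := by
  have := (F.mem_fil ρ).1 hv 1 ν h
  rwa [ptAct_one] at this

theorem Frame.act_mem_fil {m : ℤ} {v : M} (hv : v ∈ F.fil ρ m) (g : VecGrp.pt k k ⟶ G) :
    ptAct ρ g v ∈ F.fil ρ m := (F.mem_fil ρ).2 fun g' ν h => by
  rw [← ptAct_mul]
  exact (F.mem_fil ρ).1 hv _ ν h

theorem Frame.wc_mem_fil {m : ℤ} {v : M} (hv : v ∈ F.fil ρ m) (ω : Multiplicative (Fin F.d → ℤ)) :
    wc F.iT F.C ρ v ω ∈ F.fil ρ m := wc_mem F.iT F.C ρ (fun _ => F.act_mem_fil ρ hv _) ω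

theorem Frame.fil_mono {m m' : ℤ} (h : m ≤ m') : F.fil ρ m ≤ F.fil ρ m' := fun _ hv =>
  (F.mem_fil ρ).2 fun g ν hν => (F.mem_fil ρ).1 hv g ν (lt_of_le_of_lt h hν)

/-- Components of highest degree are invariant. -/
theorem Frame.top_fixed {m : ℤ} {v : M} (hv : v ∈ F.fil ρ m) {ω : Multiplicative (Fin F.d → ℤ)}
    (hω : m ≤ F.deg ω) {x : VecGrp.pt k k ⟶ G} (hx : x ∈ F.up₁) :
    ptAct ρ x (wc F.iT F.C ρ v ω) = wc F.iT F.C ρ v ω := by
  set w := wc F.iT F.C ρ v ω with hw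
  suffices h : wc F.iT F.C ρ (ptAct ρ x w) = wc F.iT F.C ρ w by
    rw [← sum_wc F.iT F.C ρ (ptAct ρ x w), h, sum_wc]
  ext ν
  have hr := F.raise ρ (act_wc F.iT F.C ρ v ω) hx ν
  rcases lt_trichotomy (F.deg ν) (F.deg ω) with h | h | h
  · rw [hr.1 h, hw, wc_wc, Finsupp.single_eq_of_ne]
    rintro rfl
    exact lt_irrefl _ h
  · exact hr.2 h
  · rw [(F.mem_fil ρ).1 (F.wc_mem_fil ρ hv ω) x ν (lt_of_le_of_lt hω h), hw, wc_wc, Finsupp.single_eq_of_ne]
    rintro rfl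
    exact lt_irrefl _ h

/-- A function vanishing on the big cell vanishes. -/
theorem Frame.eq_zero_of_cell (f : Γ(G.left, ⊤))
    (h : ∀ p ∈ F.neg.up, ∀ q ∈ F.up, val (p * q) f = 0) : f = 0 := by
  haveI : IsIntegral G.left := UnitsRos.isIntegral_of_group G
  haveI : Nonempty G.left := ⟨η[G].left (IsLocalRing.closedPoint k)⟩
  have hm : minorsFn F.r (wt F.a F.b) ≠ 0 := fun e => val_one_minorsFn F.r (wt F.a F.b) (by rw [e, map_zero])
  refine (mul_eq_zero.1 (?_ : minorsFn F.r (wt F.a F.b) * f = 0)).resolve_left hm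
  by_contra hne
  obtain ⟨z, hz⟩ := exists_val_ne_zero hne
  rw [map_mul, val_minorsFn] at hz
  obtain ⟨p, q, rfl, hp, hq⟩ := BigCell21.exists_factor F.C F.r F.a F.b F.diag z fun i =>
    (Finset.prod_ne_zero_iff.1 (left_ne_zero_of_mul hz)) i (Finset.mem_univ _)
  exact right_ne_zero_of_mul hz (h p hp q hq)

/-- The translates of a highest weight vector. -/
theorem Frame.orbit_top {ω : Multiplicative (Fin F.d → ℤ)} {v : M}
    (hv : ∀ τ : VecGrp.pt k k ⟶ F.T, ptAct ρ (τ ≫ F.iT) v = ptChr F.C τ ω • v)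
    (hfix : ∀ x ∈ F.up₁, ptAct ρ x v = v) (ξ : Module.Dual k M) (hξ : ξ v = 1) (g : VecGrp.pt k k ⟶ G)
    (ν : Multiplicative (Fin F.d → ℤ)) (hν : F.deg ω ≤ F.deg ν) :
    wc F.iT F.C ρ (ptAct ρ g v) ν = ξ (wc F.iT F.C ρ (ptAct ρ g v) ω) • wc F.iT F.C ρ v ν := by
  refine sub_eq_zero.1 ((Module.forall_dual_apply_eq_zero_iff k _).1 fun ζ => ?_)
  set f := coef ρ (ζ.comp (F.comp ρ ν)) v - ζ (wc F.iT F.C ρ v ν) • coef ρ (ξ.comp (F.comp ρ ω)) v with hf
  have hval : ∀ z, val z f = ζ (wc F.iT F.C ρ (ptAct ρ z v) ν) -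
      ζ (wc F.iT F.C ρ v ν) * ξ (wc F.iT F.C ρ (ptAct ρ z v) ω) := fun z => by
    rw [hf, map_sub, map_smul, val_coef, val_coef, smul_eq_mul]; rfl
  have hzero : f = 0 := F.eq_zero_of_cell f fun p hp q hq => by
    obtain ⟨τ, q₁, hq₁, rfl⟩ := F.exists_torus_mul hq
    obtain ⟨σ₀, p₁, hp₁, hp0⟩ := F.neg.exists_torus_mul hp
    obtain ⟨σ, rfl⟩ : ∃ σ : VecGrp.pt k k ⟶ F.T, p = (σ ≫ F.iT) * p₁ := ⟨σ₀, hp0⟩
    have hbd : ∀ l, F.deg ω < F.deg l → wc F.iT F.C ρ v l = 0 := fun l hl => by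
      rw [wc_of_wt F.iT F.C ρ hv, Finsupp.single_eq_of_ne]
      rintro rfl
      exact lt_irrefl _ hl
    have hp' : ∀ l, F.deg ω ≤ F.deg l → wc F.iT F.C ρ (ptAct ρ (((σ ≫ F.iT) * p₁) * ((τ ≫ F.iT) * q₁)) v) l =
        (ptChr F.C σ l * ptChr F.C τ ω) • wc F.iT F.C ρ v l := fun l hl => by
      rw [ptAct_mul, ptAct_mul ρ (τ ≫ F.iT), hfix q₁ hq₁, hv, ← actLin_apply, map_smul, actLin_apply, map_smul,
        Finsupp.smul_apply, ptAct_mul]
      show ptChr F.C τ ω • wc F.iT F.C ρ (ptAct ρ (σ ≫ F.iT) (ptAct ρ p₁ v)) l = _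
      rw [wc_torus, F.lower_of_bound ρ hbd hp₁ l hl, smul_smul, _root_.mul_comm]
    rw [hval, hp' ν hν, hp' ω le_rfl, map_smul, map_smul, smul_eq_mul, smul_eq_mul, wc_of_wt F.iT F.C ρ hv,
      Finsupp.single_eq_same, hξ, _root_.mul_one]
    by_cases e : ν = ω
    · subst e; ring
    · rw [Finsupp.single_eq_of_ne e, map_zero]; ring
  have h2 := congrArg (val g) hzero
  rw [hval, map_zero] at h2
  rw [map_sub, map_smul, smul_eq_mul]
  linear_combination h2

/-- A highest weight vector lies in the filtration at its degree. -/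
theorem Frame.mem_fil_of_fixed {ω : Multiplicative (Fin F.d → ℤ)} {v : M}
    (hv : ∀ τ : VecGrp.pt k k ⟶ F.T, ptAct ρ (τ ≫ F.iT) v = ptChr F.C τ ω • v)
    (hfix : ∀ x ∈ F.up₁, ptAct ρ x v = v) : v ∈ F.fil ρ (F.deg ω) := by
  by_cases hv0 : v = 0
  · rw [hv0]; exact zero_mem _
  obtain ⟨ξ, hξ⟩ : ∃ ξ : Module.Dual k M, ξ v ≠ 0 := by
    by_contra! h
    exact hv0 ((Module.forall_dual_apply_eq_zero_iff k v).1 h)
  refine (F.mem_fil ρ).2 fun g ν h => ?_
  rw [F.orbit_top ρ hv hfix ((ξ v)⁻¹ • ξ) (by simp [hξ]) g ν h.le, wc_of_wt F.iT F.C ρ hv,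
    Finsupp.single_eq_of_ne, smul_zero]
  rintro rfl
  exact lt_irrefl _ h

/-- Invariants are sums of invariant weight vectors. -/
theorem Frame.wc_fixed {v : M} (hfix : ∀ x ∈ F.up₁, ptAct ρ x v = v) (ω : Multiplicative (Fin F.d → ℤ)) :
    ∀ x ∈ F.up₁, ptAct ρ x (wc F.iT F.C ρ v ω) = wc F.iT F.C ρ v ω := by
  intro x hx
  have h : wc F.iT F.C ρ v ω ∈ LinearMap.ker (actLin ρ x - LinearMap.id) := wc_mem F.iT F.C ρ (fun τ => ?_) ω
  · rwa [LinearMap.mem_ker, LinearMap.sub_apply, LinearMap.id_apply, actLin_apply, sub_eq_zero] at h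
  · rw [LinearMap.mem_ker, LinearMap.sub_apply, LinearMap.id_apply, actLin_apply, sub_eq_zero]
    have h1 := hfix _ (F.conj_up₁ τ⁻¹ hx)
    have h2 : x * (τ ≫ F.iT) = (τ ≫ F.iT) * ((τ⁻¹ ≫ F.iT) * x * (τ⁻¹ ≫ F.iT)⁻¹) := by
      rw [GrpObj.inv_comp]; group
    rw [← ptAct_mul, h2, ptAct_mul, h1]

end Groth.Agent.UMod21
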