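import Groth.Agent.Lib.UMod21.Main
import Groth.Agent.Lib.UInvFG21.Transfer
import Groth.Agent.Lib.UInvFG21.General
import Mathlib.RingTheory.Finiteness.Basic

/-!
# Groups with reductive identity component
-/

set_option autoImplicit false
set_option linter.style.haveILetI false
set_option backward.isDefEq.respectTransparency.types false
universe u

open CategoryTheory Limits MonoidalCategory CartesianMonoidalCategory MonObj AlgebraicGeometry

noncomputable section

namespace Groth.Agent.UMod21

open InvRing21 TorPts21 UInvFG21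

attribute [local instance] InvRing21.gamAlg BorelFix21.ptsTop

variable {k : Type u} [Field k] [IsAlgClosed k] {G : Over (Spec (CommRingCat.of k))} [GrpObj G]

/-- The Borel subgroup inside the reductive identity component. -/
theorem exists_component (hG : VecGrp.IsReductiveGrp k G) {B : Over (Spec (CommRingCat.of k))} [GrpObj B]
    {iB : B ⟶ G} (hB : Red.IsBorelOver k iB) :
    ∃ (G₀ : Over (Spec (CommRingCat.of k))) (_ : GrpObj G₀) (j : G₀ ⟶ G) (l : B ⟶ G₀), IsMonHom j ∧
      Red.IsReductiveOver k G₀ ∧ Red.IsBorelOver k l ∧ l ≫ j = iB := by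
  obtain ⟨ha, hs, G₀, _, j, hj, hjo, hG₀⟩ := hG
  haveI := ha
  haveI := hs
  haveI := hj
  haveI := hjo
  haveI := hG₀.2.2.1
  obtain ⟨hm, hcl, hBs, hn, hsol, hmax⟩ := id hB
  haveI := hm
  haveI := hcl
  haveI := hn
  haveI := isClosedImmersion_of_open_subgroup j
  obtain ⟨l, hl⟩ := BorelFix21.exists_lift_component j (isClosed_range j) iB
  haveI : Mono j := Over.mono_of_mono_left j
  haveI : IsMonHom l := BorelFix21.isMonHom_of_comp j l (hl ▸ hm)
  haveI : IsClosedImmersion (l.left ≫ j.left) := by rw [← Over.comp_left, hl]; exact hcl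
  haveI : IsClosedImmersion l.left := IsClosedImmersion.of_comp l.left j.left
  refine ⟨G₀, inferInstance, j, l, hj, hG₀, ⟨inferInstance, inferInstance, hBs, hn, hsol, ?_⟩, hl⟩
  intro B' _ i' _ f hi' hs' hn' hsol' hf
  haveI := hi'
  exact hmax B' (i' ≫ j) f (by rw [Over.comp_left]; infer_instance) hs' hn' hsol' (by rw [← Category.assoc, hf, hl])

variable [IsAffine G.left] [Smooth G.hom] [ConnectedSpace G.left]

/-- The invariants of the unipotent radical are the elements fixed by the contracted points. -/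
theorem exists_frame_fixed (hG : Red.IsReductiveOver k G) {B U : Over (Spec (CommRingCat.of k))} [GrpObj B] [GrpObj U]
    {iB : B ⟶ G} {u : U ⟶ B} (hB : Red.IsBorelOver k iB) (hU : Par.IsUnipotentRadical u) :
    ∃ F : Frame G, ∀ (M : Type u) [AddCommGroup M] [Module k M] (ρ : VecGrp.GMod G M) (a : M),
      a ∈ ρ.fixedUnder (u ≫ iB) ↔ ∀ x ∈ F.up₁, ptAct ρ x a = a := by
  haveI := hB.1
  haveI := hB.2.1
  haveI : IsAffine B.left := isAffine_of_isAffineHom iB.left
  obtain ⟨hum, huc, -, hus, -, -, -, -⟩ := (isUnipotentRadical_iff u).1 hU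
  haveI := hum
  haveI := huc
  haveI := hus
  haveI : IsAffine U.left := isAffine_of_isAffineHom u.left
  obtain ⟨T, _, t, hT⟩ := exists_maxTorus_in hB
  obtain ⟨F, hpts, -⟩ := exists_frame hG hB t hT
  have hrad := F.range_radical hB hU hpts
  refine ⟨F, fun M _ _ ρ a => ⟨fun ha x hx => ?_, fun ha => mem_fixedUnder_of_points ρ fun q => ha _ ((hrad _).1 ⟨q, rfl⟩)⟩⟩
  obtain ⟨q, rfl⟩ := (hrad x).2 hx
  exact ptAct_eq_of_fixed ρ ha q

variable {A : Type u} [CommRing A] [Algebra k A] {ρ : VecGrp.GMod G A}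

/-- An algebra generated by finitely many finite dimensional stable subspaces. -/
theorem exists_fg_stable (hρ : ρ.IsMult) (s : Finset A) :
    ∃ C : Subalgebra k A, C.FG ∧ (∀ a ∈ s, a ∈ C) ∧ ∀ g : VecGrp.pt k k ⟶ G, ∀ c ∈ C, ptAct ρ g c ∈ C := by
  classical
  obtain ⟨W, hWf, hsW, hW⟩ := exists_finite_stableSub ρ s
  refine ⟨Algebra.adjoin k (W : Set A), ?_, fun a ha => Algebra.subset_adjoin (hsW a ha), fun g => ?_⟩
  · obtain ⟨t, ht⟩ := hWf
    exact ⟨t.image W.subtype, by
      rw [Finset.coe_image, ← Algebra.adjoin_span, Submodule.span_image, ht, Submodule.map_subtype_top]⟩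
  · have : Algebra.adjoin k (W : Set A) ≤ (Algebra.adjoin k (W : Set A)).comap (ptAlg hρ g) :=
      Algebra.adjoin_le fun w hw => show ptAlg hρ g w ∈ _ from Algebra.subset_adjoin (hW g w hw)
    exact fun x hx => this hx

/-- Finite generation from finite generation of the invariants. -/
theorem Frame.finiteType_of_fixed (F : Frame G) (hρ : ρ.IsMult) (hFG : (F.fixed hρ).FG) : Algebra.FiniteType k A := by
  obtain ⟨t, ht⟩ := id hFG
  obtain ⟨C, hCfg, htC, hst⟩ := exists_fg_stable hρ t
  haveI := F.exists_finite_over hρ hFG C hst (ht ▸ Algebra.adjoin_le htC)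
  haveI : Algebra.FiniteType k C := (Subalgebra.fg_iff_finiteType _).1 hCfg
  exact Algebra.FiniteType.trans (inferInstance : Algebra.FiniteType k C) (inferInstance : Algebra.FiniteType C A)

/-- Integrality over a stable subalgebra containing the invariants. -/
theorem Frame.isIntegral_of_fixed_le (F : Frame G) (hρ : ρ.IsMult)
    (hfix : ∀ (A' : Type u) [CommRing A'] [Algebra k A'] [Algebra.FiniteType k A'] (σ : VecGrp.GMod G A')
      (hσ : σ.IsMult), (F.fixed hσ).FG)
    (C : Subalgebra k A) (hst : ∀ g : VecGrp.pt k k ⟶ G, ∀ c ∈ C, ptAct ρ g c ∈ C) (hfixC : F.fixed hρ ≤ C) (v : A) :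
    IsIntegral C v := by
  classical
  obtain ⟨A', hA', hvA, hst'⟩ := exists_fg_stable hρ {v}
  haveI : Algebra.FiniteType k A' := (Subalgebra.fg_iff_finiteType _).1 hA'
  obtain ⟨σ, hσ, hσa⟩ := exists_subalgMod hρ A' hst'
  haveI := F.exists_finite_over hσ (hfix A' σ hσ) (C.comap A'.val)
    (fun g c hc => show (ptAct σ g c).1 ∈ C by rw [hσa]; exact hst g _ hc)
    fun c hc => hfixC ((F.mem_fixed hρ).2 fun x hx => by
      show ptAct ρ x c.1 = c.1
      rw [← hσa, (F.mem_fixed hσ).1 hc x hx])
  have hint : IsIntegral (C.comap A'.val) (⟨v, hvA v (Finset.mem_singleton_self v)⟩ : A') :=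
    IsIntegral.of_finite _ _
  obtain ⟨p, hp, hp0⟩ := hint
  let φ : C.comap A'.val →+* C := (A'.val.toRingHom.comp (C.comap A'.val).val.toRingHom).codRestrict C fun x => x.2
  refine ⟨p.map φ, hp.map φ, ?_⟩
  have h1 := congrArg A'.val.toRingHom hp0
  rw [Polynomial.hom_eval₂, map_zero] at h1
  rw [Polynomial.eval₂_map]
  exact h1

section Module

variable {M : Type u} [AddCommGroup M] [Module k M] {σ : VecGrp.GMod G M}

set_option maxHeartbeats 800000 in
/-- A module with finite dimensional invariants is finite dimensional. -/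
theorem Frame.finite_of_fixed (F : Frame G) (Fx : Submodule k M) [Module.Finite k Fx]
    (hFx : ∀ a, (∀ x ∈ F.up₁, ptAct σ x a = a) → a ∈ Fx) : Module.Finite k M := by
  classical
  let bF := Module.finBasis k Fx
  choose ξ hξ using fun j => LinearMap.exists_extend (bF.coord j)
  let Ω : Finset (Multiplicative (Fin F.d → ℤ)) := Finset.univ.biUnion fun j => (wc F.iT F.C σ (bF j : M)).support
  choose st hst using fun ω => F.exists_finite_semi ω
  have hexp : ∀ m (v : M), v ∈ F.fil σ m → ∀ ω, F.deg ω = m → ∀ y : VecGrp.pt k k ⟶ G,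
      wc F.iT F.C σ (ptAct σ y⁻¹ v) ω = ∑ j, ξ j (wc F.iT F.C σ (ptAct σ y⁻¹ v) ω) • wc F.iT F.C σ (bF j : M) ω := by
    intro m v hv ω hω y
    have hmem : wc F.iT F.C σ (ptAct σ y⁻¹ v) ω ∈ Fx :=
      hFx _ fun x hx => F.top_fixed σ (F.act_mem_fil σ hv _) hω.ge hx
    have h1 := congrArg Subtype.val (bF.sum_repr ⟨_, hmem⟩)
    rw [Submodule.coe_sum] at h1
    have h2 := congrArg (F.comp σ ω) h1
    simp only [map_sum, Submodule.coe_smul, map_smul, F.comp_apply, Finsupp.finsetSum_apply, Finsupp.smul_apply, wc_wc,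
      Finsupp.single_eq_same] at h2
    refine h2.symm.trans (Finset.sum_congr rfl fun j _ => ?_)
    congr 1
    exact (DFunLike.congr_fun (hξ j) ⟨_, hmem⟩).symm
  -- only finitely many degrees matter
  have hdeg : ∀ m, (∀ ω ∈ Ω, F.deg ω ≠ m) → F.fil σ m ≤ F.fil σ (m - 1) := fun m hm v hv => by
    refine (F.mem_fil σ).2 fun g ν hν => ?_
    rcases (show m ≤ F.deg ν by omega).lt_or_eq with h | h
    · exact (F.mem_fil σ).1 hv g ν h
    · rw [← inv_inv g, hexp m v hv ν h.symm]
      refine Finset.sum_eq_zero fun j _ => ?_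
      rw [show wc F.iT F.C σ (bF j : M) ν = 0 from ?_, smul_zero]
      by_contra hne
      exact hm ν (Finset.mem_biUnion.2 ⟨j, Finset.mem_univ _, Finsupp.mem_support_iff.2 hne⟩) h.symm
  let D : ℕ := Ω.sup fun ω => (F.deg ω).natAbs
  have hD : ∀ m : ℤ, (m : ℤ) > D ∨ m < -(D : ℤ) → F.fil σ m ≤ F.fil σ (m - 1) := fun m hm => hdeg m fun ω hω e => by
    have := Finset.le_sup (f := fun ω => (F.deg ω).natAbs) hω
    omega
  have htop : ∀ v : M, v ∈ F.fil σ (D : ℤ) := fun v => by
    obtain ⟨W, hWf, hvW, hW⟩ := exists_finite_stableSub σ {v}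
    haveI := hWf
    let bW := Module.finBasis k W
    obtain ⟨N, hN⟩ : ∃ N : ℕ, ∀ ω ∈ Finset.univ.biUnion fun j => (wc F.iT F.C σ (bW j : M)).support,
        F.deg ω ≤ (D : ℤ) + N := by
      refine ⟨(Finset.univ.biUnion fun j => (wc F.iT F.C σ (bW j : M)).support).sup fun ω => (F.deg ω).natAbs,
        fun ω hω => ?_⟩
      have := Finset.le_sup (f := fun ω => (F.deg ω).natAbs) hω
      omega
    have hdown : ∀ j : ℕ, F.fil σ ((D : ℤ) + j) ≤ F.fil σ (D : ℤ) := by
      intro j
      induction j with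
      | zero => simp
      | succ j ih =>
        refine le_trans (hD _ (Or.inl (by push_cast; omega))) (le_trans (F.fil_mono σ ?_) ih)
        push_cast; omega
    refine hdown N ((F.mem_fil σ).2 fun g ν hν => ?_)
    have h1 := congrArg Subtype.val (bW.sum_repr ⟨_, hW g v (hvW v (Finset.mem_singleton_self v))⟩)
    rw [Submodule.coe_sum] at h1
    dsimp only at h1
    rw [← h1, map_sum, Finsupp.finsetSum_apply]
    refine Finset.sum_eq_zero fun j _ => ?_
    rw [Submodule.coe_smul, map_smul, Finsupp.smul_apply, show wc F.iT F.C σ (bW j : M) ν = 0 from ?_, smul_zero]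
    by_contra hne
    exact absurd (hN ν (Finset.mem_biUnion.2 ⟨j, Finset.mem_univ _, Finsupp.mem_support_iff.2 hne⟩)) (not_le.2 hν)
  have hbot : ∀ v ∈ F.fil σ (-(D : ℤ) - 1), v = 0 := fun v hv => by
    have hdown : ∀ j : ℕ, F.fil σ (-(D : ℤ) - 1) ≤ F.fil σ (-(D : ℤ) - 1 - j) := by
      intro j
      induction j with
      | zero => simp
      | succ j ih =>
        refine le_trans ih (le_trans (hD _ (Or.inr (by push_cast; omega))) (F.fil_mono σ ?_))
        push_cast; omega
    refine F.ext_wc σ fun ω => ?_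
    obtain ⟨m₀, hm₀⟩ := F.exists_bound σ (F.res ω)
    have hz : F.part σ (fun ν => F.res ν = F.res ω) v = 0 := by
      refine hm₀ (min (-(D : ℤ) - 1) (m₀ - 1)) (by omega) _ (F.part_res_mem_fil σ ?_ _) ?_
      · obtain ⟨j, hj⟩ : ∃ j : ℕ, min (-(D : ℤ) - 1) (m₀ - 1) = -(D : ℤ) - 1 - j :=
          ⟨((-(D : ℤ) - 1) - min (-(D : ℤ) - 1) (m₀ - 1)).toNat, by omega⟩
        rw [hj]
        exact hdown j hv
      · exact F.part_of_forall σ fun ν hν => by rw [F.wc_part, if_neg hν]
    have h1 := congrArg (fun x => wc F.iT F.C σ x ω) hz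
    simp only [F.wc_part, if_pos, map_zero, Finsupp.zero_apply] at h1 ⊢
    exact h1
  have hfg : ∀ j : ℕ, (F.fil σ (-(D : ℤ) - 1 + j)).FG := by
    intro j
    induction j with
    | zero =>
      rw [show F.fil σ (-(D : ℤ) - 1 + ((0 : ℕ) : ℤ)) = ⊥ from (Submodule.eq_bot_iff _).2 fun v hv => hbot v (by simpa using hv)]
      exact Submodule.fg_bot
    | succ j ih =>
      set m := -(D : ℤ) - 1 + ((j + 1 : ℕ) : ℤ) with hm
      refine Submodule.fg_of_fg_map_of_fg_inf_ker (F.psi σ m) ?_ ?_
      · let gen : Finset ((VecGrp.pt k k ⟶ G) → M) := (Ω.filter fun ω => F.deg ω = m).biUnion fun ω =>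
          Finset.univ.biUnion fun i => (st ω⁻¹).image fun f y => val y f • wc F.iT F.C σ (bF i : M) ω
        have hle : (F.fil σ m).map (F.psi σ m) ≤ Submodule.span k (gen : Set ((VecGrp.pt k k ⟶ G) → M)) := by
          rintro _ ⟨v, hv, rfl⟩
          have e : F.psi σ m v = ∑ ω ∈ Ω.filter (fun ω => F.deg ω = m), ∑ i,
              fun y => val y (F.coFn σ (ξ i) ω v) • wc F.iT F.C σ (bF i : M) ω := by
            funext y
            simp only [Finset.sum_apply, F.val_coFn]
            rw [F.psi_apply]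
            refine F.ext_wc σ fun ν => ?_
            rw [F.wc_part, map_sum, Finsupp.finsetSum_apply]
            simp only [map_sum, Finsupp.finsetSum_apply, map_smul, Finsupp.smul_apply, wc_wc, Finsupp.single_apply]
            rw [Finset.sum_comm]
            simp only [smul_ite, smul_zero, Finset.sum_ite_eq', Finset.mem_filter]
            by_cases hν : F.deg ν = m
            · rw [if_pos hν]
              by_cases hνΩ : ν ∈ Ω
              · simp only [hνΩ, hν, and_self, if_true]
                exact hexp m v hv ν hν y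
              · simp only [hνΩ, false_and, if_false, Finset.sum_const_zero]
                rw [hexp m v hv ν hν y]
                refine Finset.sum_eq_zero fun i _ => ?_
                rw [show wc F.iT F.C σ (bF i : M) ν = 0 from ?_, smul_zero]
                by_contra hne
                exact hνΩ (Finset.mem_biUnion.2 ⟨i, Finset.mem_univ _, Finsupp.mem_support_iff.2 hne⟩)
            · simp only [hν, and_false, if_false, Finset.sum_const_zero]
          rw [e]
          refine Submodule.sum_mem _ fun ω hω => Submodule.sum_mem _ fun i _ => ?_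
          have hfm := hst ω⁻¹ _ (F.isSemi_coFn σ (ξ i) hv (Finset.mem_filter.1 hω).2.ge)
          generalize F.coFn σ (ξ i) ω v = f at hfm ⊢
          let L : Γ(G.left, ⊤) →ₗ[k] ((VecGrp.pt k k ⟶ G) → M) :=
            LinearMap.pi fun y => (val y).toLinearMap.smulRight (wc F.iT F.C σ (bF i : M) ω)
          show L f ∈ _
          refine (Submodule.span_le.2 fun f hf => ?_ :
            Submodule.span k (st ω⁻¹ : Set Γ(G.left, ⊤)) ≤ (Submodule.span k (gen : Set _)).comap L) hfm
          exact Submodule.subset_span (Finset.mem_biUnion.2 ⟨ω, hω, Finset.mem_biUnion.2 ⟨i, Finset.mem_univ _,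
            Finset.mem_image.2 ⟨f, hf, rfl⟩⟩⟩)
        haveI : FiniteDimensional k (Submodule.span k (gen : Set ((VecGrp.pt k k ⟶ G) → M))) :=
          FiniteDimensional.span_finset k gen
        haveI := Submodule.finiteDimensional_of_le hle
        exact Module.Finite.iff_fg.1 inferInstance
      · have : F.fil σ m ⊓ LinearMap.ker (F.psi σ m) = F.fil σ (-(D : ℤ) - 1 + j) := by
          refine le_antisymm (fun v hv => (F.mem_fil σ).2 fun g ν hν => ?_) fun v hv => ⟨?_, ?_⟩
          · rcases (show m ≤ F.deg ν by rw [hm]; push_cast; omega).lt_or_eq with h | h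
            · exact (F.mem_fil σ).1 hv.1 g ν h
            · have h1 := congrArg (fun x => wc F.iT F.C σ x ν) (congrFun (LinearMap.mem_ker.1 hv.2) g⁻¹)
              rw [F.psi_apply, inv_inv] at h1
              simp only [F.wc_part, Pi.zero_apply, map_zero, Finsupp.zero_apply, if_pos h.symm] at h1
              exact h1
          · exact F.fil_mono σ (by rw [hm]; push_cast; omega) hv
          · refine LinearMap.mem_ker.2 (funext fun y => F.ext_wc σ fun ν => ?_)
            rw [F.psi_apply, F.wc_part, Pi.zero_apply, map_zero, Finsupp.zero_apply]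
            split_ifs with h
            · exact (F.mem_fil σ).1 hv _ ν (by rw [h, hm]; push_cast; omega)
            · rfl
        rw [this]
        exact ih
  have := hfg (2 * D + 1)
  rw [show F.fil σ (-(D : ℤ) - 1 + ((2 * D + 1 : ℕ) : ℤ)) = ⊤ from eq_top_iff.2 fun v _ => by
    rw [show -(D : ℤ) - 1 + ((2 * D + 1 : ℕ) : ℤ) = (D : ℤ) by push_cast; ring]; exact htop v] at this
  exact ⟨this⟩

end Module

end Groth.Agent.UMod21
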