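import Groth.Agent.Lib.UMod21.Fil
import Groth.Agent.Lib.TorPts21.WeylNorm
import Mathlib.LinearAlgebra.Determinant
import Mathlib.LinearAlgebra.Dimension.Finrank

/-!
# Projections to sums of weight spaces and the central classes
-/

set_option autoImplicit false
set_option linter.style.haveILetI false
set_option backward.isDefEq.respectTransparency.types false
universe u

open CategoryTheory Limits MonoidalCategory CartesianMonoidalCategory MonObj AlgebraicGeometry

noncomputable section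

namespace Groth.Agent.UMod21

open InvRing21 DiagGL TorPts21 UInvFG21 BorelLam21

attribute [local instance] InvRing21.gamAlg BorelFix21.ptsTop

variable {k : Type u} [Field k] [IsAlgClosed k] {G : Over (Spec (CommRingCat.of k))} [GrpObj G] [IsAffine G.left]
  [Smooth G.hom] [ConnectedSpace G.left] (F : Frame G) {M : Type u} [AddCommGroup M] [Module k M]
  (ρ : VecGrp.GMod G M)

/-- The sum of the components of the chosen weights. -/
def Frame.part (P : Multiplicative (Fin F.d → ℤ) → Prop) : M →ₗ[k] M :=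
  open Classical in (Finsupp.lsum k fun ω => if P ω then LinearMap.id else 0).comp (wc F.iT F.C ρ)

open Classical in
theorem Frame.part_apply (P : Multiplicative (Fin F.d → ℤ) → Prop) (v : M) :
    F.part ρ P v = ∑ ω ∈ (wc F.iT F.C ρ v).support.filter P, wc F.iT F.C ρ v ω := by
  rw [Frame.part, LinearMap.comp_apply, Finsupp.lsum_apply, Finsupp.sum, Finset.sum_filter]
  refine Finset.sum_congr rfl fun ω _ => ?_
  split_ifs <;> rfl

open Classical in
theorem Frame.wc_part (P : Multiplicative (Fin F.d → ℤ) → Prop) (v : M) (ω : Multiplicative (Fin F.d → ℤ)) :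
    wc F.iT F.C ρ (F.part ρ P v) ω = if P ω then wc F.iT F.C ρ v ω else 0 := by
  rw [F.part_apply, map_sum, Finsupp.finsetSum_apply]
  simp only [wc_wc, Finsupp.single_apply, Finset.sum_ite_eq', Finset.mem_filter, Finsupp.mem_support_iff]
  by_cases h : P ω
  · rw [if_pos h]
    split_ifs with h' <;> simp_all
  · simp [h]

theorem Frame.ext_wc {v w : M} (h : ∀ ω, wc F.iT F.C ρ v ω = wc F.iT F.C ρ w ω) : v = w := by
  rw [← sum_wc F.iT F.C ρ v, Finsupp.ext h, sum_wc]

theorem Frame.part_of_forall {P : Multiplicative (Fin F.d → ℤ) → Prop} {v : M}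
    (h : ∀ ω, ¬ P ω → wc F.iT F.C ρ v ω = 0) : F.part ρ P v = v :=
  F.ext_wc ρ fun ω => by
    classical
    rw [F.wc_part]
    split_ifs with h'
    · rfl
    · rw [h ω h']

/-- The component maps commute with the projections. -/
theorem Frame.part_part (P Q : Multiplicative (Fin F.d → ℤ) → Prop) (v : M) :
    F.part ρ P (F.part ρ Q v) = F.part ρ Q (F.part ρ P v) := F.ext_wc ρ fun ω => by
  classical
  simp only [F.wc_part]
  split_ifs <;> rfl

/-- The torus points which are central. -/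
def Frame.zc : Subgroup (VecGrp.pt k k ⟶ F.T) :=
  (Subgroup.center (VecGrp.pt k k ⟶ G)).comap
    (MonoidHom.mk' (fun τ : VecGrp.pt k k ⟶ F.T => τ ≫ F.iT) fun a b => MonObj.mul_comp a b F.iT)

theorem Frame.zc_comm {σ : VecGrp.pt k k ⟶ F.T} (hσ : σ ∈ F.zc) (g : VecGrp.pt k k ⟶ G) :
    g * (σ ≫ F.iT) = (σ ≫ F.iT) * g := Subgroup.mem_center_iff.1 hσ g

/-- The restriction of a weight to the central points. -/
def Frame.res (ω : Multiplicative (Fin F.d → ℤ)) : F.zc →* k where
  toFun σ := ptChr F.C σ.1 ω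
  map_one' := ptChr_one F.C ω
  map_mul' a b := ptChr_mul F.C a.1 b.1 ω

theorem Frame.res_mul (ω ν : Multiplicative (Fin F.d → ℤ)) : F.res (ω * ν) = F.res ω * F.res ν :=
  MonoidHom.ext fun σ => map_mul (ptChr F.C σ.1) ω ν

/-- Translates of a weight vector keep the central class. -/
theorem Frame.wc_act_eq_zero (v : M) (g : VecGrp.pt k k ⟶ G) {ω ν : Multiplicative (Fin F.d → ℤ)}
    (h : F.res ν ≠ F.res ω) : wc F.iT F.C ρ (ptAct ρ g (wc F.iT F.C ρ v ω)) ν = 0 := by
  obtain ⟨σ, hσ⟩ : ∃ σ : F.zc, F.res ν σ ≠ F.res ω σ := by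
    by_contra! h'
    exact h (MonoidHom.ext h')
  have h1 := wc_torus F.iT F.C ρ (ptAct ρ g (wc F.iT F.C ρ v ω)) ν σ.1
  rw [← ptAct_mul, ← F.zc_comm σ.2 g, ptAct_mul, act_wc, ← actLin_apply, map_smul, actLin_apply, map_smul,
    Finsupp.smul_apply] at h1
  by_contra hne
  exact hσ (smul_left_injective k hne h1).symm

/-- The central classes are stable. -/
theorem Frame.part_res_act (z : F.zc →* k) (g : VecGrp.pt k k ⟶ G) (v : M) :
    F.part ρ (fun ω => F.res ω = z) (ptAct ρ g v) = ptAct ρ g (F.part ρ (fun ω => F.res ω = z) v) := by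
  classical
  have e : ∀ T : M →ₗ[k] M, T v = (wc F.iT F.C ρ v).sum fun _ y => T y := fun T => by
    conv_lhs => rw [← sum_wc F.iT F.C ρ v]
    rw [map_finsuppSum]
  show ((F.part ρ fun ω => F.res ω = z).comp (actLin ρ g)) v = ((actLin ρ g).comp (F.part ρ fun ω => F.res ω = z)) v
  rw [e, e]
  refine Finset.sum_congr rfl fun ω _ => ?_
  simp only [LinearMap.comp_apply, actLin_apply]
  by_cases hω : F.res ω = z
  · rw [F.part_of_forall ρ fun ν hν => F.wc_act_eq_zero ρ v g fun h => hν (h.trans hω),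
      F.part_of_forall ρ fun ν hν => by
        rw [wc_wc, Finsupp.single_eq_of_ne]
        rintro rfl
        exact hν hω]
  · have h0 : ∀ w, (∀ ν, F.res ν = z → wc F.iT F.C ρ w ν = 0) → F.part ρ (fun ω => F.res ω = z) w = 0 := fun w hw => by
      refine F.ext_wc ρ fun ν => ?_
      rw [F.wc_part, map_zero, Finsupp.zero_apply]
      split_ifs with h
      · exact hw ν h
      · rfl
    rw [h0 _ fun ν hν => F.wc_act_eq_zero ρ v g fun h => hω (h.symm.trans hν),
      h0 _ fun ν hν => by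
        rw [wc_wc, Finsupp.single_eq_of_ne]
        rintro rfl
        exact hω hν,
      ← actLin_apply, map_zero]

theorem Frame.part_res_mem_fil {m : ℤ} {v : M} (hv : v ∈ F.fil ρ m) (z : F.zc →* k) :
    F.part ρ (fun ω => F.res ω = z) v ∈ F.fil ρ m := (F.mem_fil ρ).2 fun g ν hν => by
  classical
  rw [← F.part_res_act, F.wc_part, (F.mem_fil ρ).1 hv g ν hν, ite_self]

set_option maxHeartbeats 1600000 in
/-- Below some degree no nonzero vector of a given central class survives in the filtration. -/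
theorem Frame.exists_bound (z : F.zc →* k) :
    ∃ m₀ : ℤ, ∀ m < m₀, ∀ v ∈ F.fil ρ m, F.part ρ (fun ω => F.res ω = z) v = v → v = 0 := by
  classical
  haveI := F.maxT.2.1
  set Pz := F.part ρ fun ω => F.res ω = z with hPz
  by_cases hall : ∀ v, Pz v = v → v = 0
  · exact ⟨0, fun m _ v _ hv => hall v hv⟩
  push Not at hall
  obtain ⟨v₀, hv₀, hv₀0⟩ := hall
  -- the weight sum of a stable subspace of the class
  have key : ∀ W : Submodule k M, Module.Finite k W → (∀ g, ∀ w ∈ W, ptAct ρ g w ∈ W) → (∀ w ∈ W, Pz w = w) →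
      ∃ (s : Finset M) (S : ℤ), (s.card = Module.finrank k W) ∧
        (∀ m : ℤ, (∀ w ∈ W, w ∈ F.fil ρ m) → S ≤ s.card * m) ∧
        ∃ h : (VecGrp.pt k k ⟶ G) →* k, (∀ σ ∈ F.zc, ∀ hσ, h (σ ≫ F.iT) = z ⟨σ, hσ⟩ ^ Module.finrank k W) ∧
          ∀ lam : kˣ → (VecGrp.pt k k ⟶ F.T),
            (∀ s ω, ptChr F.C (lam s) ω = ((s ^ F.deg ω : kˣ) : k)) →
            ∀ u, h (lam u ≫ F.iT) = ((u ^ S : kˣ) : k) := by
    intro W hWf hWst hWz
    haveI := hWf
    let wts : Set W := {w | ∃ ω, ∀ τ, ptAct ρ (τ ≫ F.iT) w.1 = ptChr F.C τ ω • w.1}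
    have hspan : Submodule.span k wts = ⊤ := by
      refine eq_top_iff.2 fun w _ => ?_
      have hc : ∀ ω, wc F.iT F.C ρ w.1 ω ∈ W := fun ω => wc_mem F.iT F.C ρ (fun τ => hWst _ _ w.2) ω
      have hw : w = ∑ ω ∈ (wc F.iT F.C ρ w.1).support, (⟨_, hc ω⟩ : W) := Subtype.ext (by
        rw [Submodule.coe_sum]; exact (sum_wc F.iT F.C ρ w.1).symm)
      rw [hw]
      exact Submodule.sum_mem _ fun ω _ => Submodule.subset_span ⟨ω, act_wc F.iT F.C ρ w.1 ω⟩
    obtain ⟨bs, hbs, hbspan, hbli⟩ := exists_linearIndependent k wts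
    let B : Module.Basis bs k W := Module.Basis.mk hbli (by rw [Subtype.range_coe, hbspan, hspan])
    have hBe : ∀ i, B i = i.1 := fun i => Module.Basis.mk_apply _ _ i
    haveI : Finite bs := Module.Finite.finite_basis B
    haveI : Fintype bs := Fintype.ofFinite _
    have hinj : Function.Injective fun i : bs => (i.1 : M) := fun i j h => Subtype.ext (Subtype.ext h)
    choose wb hwb using fun i : bs => hbs i.2
    let Rep : (VecGrp.pt k k ⟶ G) →* Module.End k W :=
      { toFun := fun g => (actLin ρ g).restrict fun w hw => hWst g w hw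
        map_one' := LinearMap.ext fun w => Subtype.ext (ptAct_one ρ w.1)
        map_mul' := fun a b => LinearMap.ext fun w => Subtype.ext (ptAct_mul ρ a b w.1) }
    refine ⟨Finset.univ.image fun i : bs => (i.1 : M), ∑ i : bs, F.deg (wb i), ?_, fun m hm => ?_,
      LinearMap.det.comp Rep, fun σ hσ hσ' => ?_, fun lam hlam u => ?_⟩
    · rw [Finset.card_image_of_injective _ hinj, Finset.card_univ,
        Module.finrank_eq_card_basis B]
    · rw [Finset.card_image_of_injective _ hinj]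
      refine (Finset.sum_le_card_nsmul _ _ m fun i _ => ?_).trans (by rw [nsmul_eq_mul])
      by_contra hlt
      refine hbli.ne_zero i (Subtype.ext ?_)
      have h1 := F.fil_bound ρ (hm _ (i : W).2) (wb i) (not_le.1 hlt)
      rwa [wc_of_wt F.iT F.C ρ (hwb i), Finsupp.single_eq_same] at h1
    · show LinearMap.det (Rep (σ ≫ F.iT)) = _
      have hR : Rep (σ ≫ F.iT) = z ⟨σ, hσ'⟩ • LinearMap.id := LinearMap.ext fun w => Subtype.ext (by
        show ptAct ρ (σ ≫ F.iT) w.1 = z ⟨σ, hσ'⟩ • w.1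
        conv_lhs => rw [act_eq_sum F.iT F.C ρ w.1 σ]
        conv_rhs => rw [← sum_wc F.iT F.C ρ w.1, Finsupp.smul_sum]
        refine Finset.sum_congr rfl fun ω _ => ?_
        dsimp only
        by_cases hω : F.res ω = z
        · rw [← hω]; rfl
        · have h1 := congrArg (fun x => wc F.iT F.C ρ x ω) (hWz _ w.2)
          rw [hPz, F.wc_part, if_neg hω] at h1
          rw [← h1, smul_zero, smul_zero])
      rw [hR, LinearMap.det_smul, LinearMap.det_id, _root_.mul_one]
    · show LinearMap.det (Rep (lam u ≫ F.iT)) = _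
      rw [← LinearMap.det_toMatrix B,
        show LinearMap.toMatrix B B (Rep (lam u ≫ F.iT)) = Matrix.diagonal fun i => ((u ^ F.deg (wb i) : kˣ) : k) from ?_,
        Matrix.det_diagonal, ← Units.coe_prod]
      · congr 1
        induction (Finset.univ : Finset bs) using Finset.induction_on with
        | empty => simp
        | insert i t hi ih => rw [Finset.prod_insert hi, Finset.sum_insert hi, zpow_add, ih]
      · ext i j
        have hRb : Rep (lam u ≫ F.iT) (B j) = ((u ^ F.deg (wb j) : kˣ) : k) • B j := Subtype.ext (by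
          show ptAct ρ (lam u ≫ F.iT) (B j : M) = _
          rw [Submodule.coe_smul, hBe, hwb j, hlam])
        rw [LinearMap.toMatrix_apply, hRb, map_smul, B.repr_self, Finsupp.smul_apply, Matrix.diagonal_apply]
        by_cases e : i = j
        · subst e; rw [Finsupp.single_eq_same, if_pos rfl, smul_eq_mul, _root_.mul_one]
        · rw [Finsupp.single_eq_of_ne e, if_neg e, smul_zero]
  obtain ⟨S', _, iS', hmS, -, -, hcen, hdec⟩ := exists_central_torus_decomp F.red
  haveI := hmS
  obtain ⟨W₀, hW₀f, hv₀W, hW₀⟩ := exists_finite_stableSub ρ {v₀}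
  haveI := hW₀f
  let Cz : Submodule k M := LinearMap.ker (Pz - LinearMap.id)
  have hCz : ∀ w, w ∈ Cz ↔ Pz w = w := fun w => by
    rw [LinearMap.mem_ker, LinearMap.sub_apply, LinearMap.id_apply, sub_eq_zero]
  have hCzst : ∀ g, ∀ w ∈ Cz, ptAct ρ g w ∈ Cz := fun g w hw => (hCz _).2 (by
    rw [hPz, F.part_res_act, ← hPz, (hCz w).1 hw])
  haveI : Module.Finite k (W₀ ⊓ Cz : Submodule k M) := Submodule.finiteDimensional_inf_left _ _
  obtain ⟨s₀, S₀, hs₀, -, h₀, h₀z, h₀lam⟩ := key (W₀ ⊓ Cz) inferInstance (fun g w hw => ⟨hW₀ g w hw.1, hCzst g w hw.2⟩)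
    fun w hw => (hCz w).1 hw.2
  have hs₀pos : 0 < s₀.card := by
    rw [hs₀]
    haveI : Nontrivial (W₀ ⊓ Cz : Submodule k M) :=
      ⟨⟨v₀, hv₀W _ (Finset.mem_singleton_self v₀), (hCz v₀).2 hv₀⟩, 0, fun e => hv₀0 (congrArg Subtype.val e)⟩
    exact Module.finrank_pos
  refine ⟨-|S₀|, fun m hm v hv hvz => ?_⟩
  by_contra hv0
  obtain ⟨W, hWf, hvW, hW⟩ := exists_finite_stableSub ρ {v}
  haveI := hWf
  haveI : Module.Finite k (W ⊓ (Cz ⊓ F.fil ρ m) : Submodule k M) := Submodule.finiteDimensional_inf_left _ _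
  obtain ⟨s, S, hs, hS, h, hz, hlam⟩ := key (W ⊓ (Cz ⊓ F.fil ρ m)) inferInstance
    (fun g w hw => ⟨hW g w hw.1, hCzst g w hw.2.1, F.act_mem_fil ρ hw.2.2 g⟩) fun w hw => (hCz w).1 hw.2.1
  have hspos : 0 < s.card := by
    rw [hs]
    haveI : Nontrivial (W ⊓ (Cz ⊓ F.fil ρ m) : Submodule k M) :=
      ⟨⟨v, hvW _ (Finset.mem_singleton_self v), (hCz v).2 hvz, hv⟩, 0, fun e => hv0 (congrArg Subtype.val e)⟩
    exact Module.finrank_pos
  -- the two characters agree
  have heq : ∀ g, h g ^ s₀.card = h₀ g ^ s.card := by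
    intro g
    obtain ⟨σ, hσ⟩ := hdec g
    obtain ⟨τ, hτ⟩ := (cent_iff F.red F.maxT (σ ≫ iS')).1 fun τ => ((hcen _ (τ ≫ F.iT) σ)).symm
    have hτz : τ ∈ F.zc := Subgroup.mem_center_iff.2 fun g' => by
      show g' * (τ ≫ F.iT) = (τ ≫ F.iT) * g'
      rw [hτ]; exact hcen _ g' σ
    have hu : ∀ f : (VecGrp.pt k k ⟶ G) →* k, f g = f (τ ≫ F.iT) := fun f => by
      have h1 := Abelianization.commutator_subset_ker f.toHomUnits hσ
      rw [MonoidHom.mem_ker, map_mul, map_inv, mul_inv_eq_one] at h1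
      rw [hτ]
      exact congrArg Units.val h1
    rw [hu h, hu h₀, hz τ hτz hτz, h₀z τ hτz hτz, ← pow_mul, ← pow_mul, ← hs, ← hs₀, Nat.mul_comm]
  obtain ⟨lam, hchr, -⟩ := F.exists_cochar
  have he : S * s₀.card = S₀ * s.card := zpow_inj (k := k) fun u => Units.ext (by
    rw [zpow_mul, zpow_mul, zpow_natCast, zpow_natCast, Units.val_pow_eq_pow_val, Units.val_pow_eq_pow_val,
      ← hlam lam hchr, ← h₀lam lam hchr]
    exact heq _)
  have hle := hS m fun w hw => hw.2.2
  have h1 : (0 : ℤ) < s.card := by exact_mod_cast hspos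
  have h2 : (1 : ℤ) ≤ s₀.card := by exact_mod_cast hs₀pos
  have h3 : S₀ ≤ s₀.card * m := le_of_mul_le_mul_right
    (by calc S₀ * s.card = S * s₀.card := he.symm
      _ ≤ s.card * m * s₀.card := mul_le_mul_of_nonneg_right hle (by omega)
      _ = s₀.card * m * s.card := by ring) h1
  have h4 : (s₀.card : ℤ) * m ≤ m := by
    have hm0 : m ≤ 0 := by have := abs_nonneg S₀; omega
    nlinarith
  have := neg_abs_le S₀
  omega

end Groth.Agent.UMod21
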