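import Groth.Agent.Lib.UMod21.Semi
import Groth.Agent.Lib.UMod21.Part
import Mathlib.Algebra.Polynomial.AlgebraMap
import Mathlib.RingTheory.IntegralClosure.IsIntegral.Basic

/-!
# Products of a highest weight vector and a semi-invariant are integral over the translates
-/

set_option autoImplicit false
set_option linter.style.haveILetI false
set_option backward.isDefEq.respectTransparency.types false
universe u

open CategoryTheory Limits MonoidalCategory CartesianMonoidalCategory MonObj AlgebraicGeometry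

noncomputable section

namespace Groth.Agent.UMod21

open InvRing21 DiagGL TorPts21 UInvFG21 BorelLam21

attribute [local instance] InvRing21.gamAlg BorelFix21.ptsTop

variable {k : Type u} [Field k] [IsAlgClosed k] {G : Over (Spec (CommRingCat.of k))} [GrpObj G] [IsAffine G.left]
  [Smooth G.hom] [ConnectedSpace G.left] (F : Frame G)

omit [IsAffine G.left] [Smooth G.hom] [ConnectedSpace G.left] in
theorem Frame.exists_ptChr_eq {ω : Multiplicative (Fin F.d → ℤ)} (hω : ω ≠ 1) {t : k} (ht : t ≠ 0) :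
    ∃ τ : VecGrp.pt k k ⟶ F.T, ptChr F.C τ ω = t := by
  classical
  obtain ⟨i, hi⟩ : ∃ i, ω.toAdd i ≠ 0 := by
    by_contra! h
    exact hω (Multiplicative.toAdd.injective (funext fun i => by simp [h i]))
  obtain ⟨s, hs⟩ : ∃ s : kˣ, s ^ ω.toAdd i = Units.mk0 t ht := by
    obtain ⟨z, hz⟩ := IsAlgClosed.exists_pow_nat_eq t (Int.natAbs_pos.2 hi)
    have hz0 : z ≠ 0 := fun h => ht (by rw [← hz, h, zero_pow (Int.natAbs_ne_zero.2 hi)])
    rcases Int.natAbs_eq (ω.toAdd i) with h | h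
    · exact ⟨Units.mk0 z hz0, Units.ext (by
        rw [h, zpow_natCast, Units.val_pow_eq_pow_val, Units.val_mk0, hz, Units.val_mk0])⟩
    · refine ⟨(Units.mk0 z hz0)⁻¹, Units.ext ?_⟩
      rw [h, zpow_neg, inv_zpow, inv_inv, zpow_natCast, Units.val_pow_eq_pow_val, Units.val_mk0, hz, Units.val_mk0]
  obtain ⟨τ, hτ⟩ := exists_ptChr F.C ({ toFun := fun ν => ((s ^ ν.toAdd i : kˣ) : k)
                                        map_one' := by simp
                                        map_mul' := fun a b => by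
                                          rw [toAdd_mul, Pi.add_apply, zpow_add, Units.val_mul] } :
    Multiplicative (Fin F.d → ℤ) →* k)
  exact ⟨τ, by rw [hτ]; show ((s ^ ω.toAdd i : kˣ) : k) = t; rw [hs, Units.val_mk0]⟩

omit [IsAffine G.left] [Smooth G.hom] [ConnectedSpace G.left] in
theorem Frame.ptChr_inv_pt (τ : VecGrp.pt k k ⟶ F.T) (ω : Multiplicative (Fin F.d → ℤ)) :
    ptChr F.C τ⁻¹ ω = ptChr F.C τ ω⁻¹ := by
  have h1 : ptChr F.C τ⁻¹ ω * ptChr F.C τ ω = 1 := by rw [← ptChr_mul, inv_mul_cancel, ptChr_one]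
  have h2 : ptChr F.C τ ω⁻¹ * ptChr F.C τ ω = 1 := by rw [← map_mul, inv_mul_cancel, map_one]
  exact mul_right_cancel₀ (right_ne_zero_of_mul_eq_one h1) (h1.trans h2.symm)

section coef

variable {M : Type u} [AddCommGroup M] [Module k M] (ρ : VecGrp.GMod G M)

/-- The function `y ↦ ζ (component of y⁻¹ v)`. -/
def Frame.coFn (ζ : Module.Dual k M) (ν : Multiplicative (Fin F.d → ℤ)) (v : M) : Γ(G.left, ⊤) :=
  ((𝟙 G)⁻¹ : G ⟶ G).left.appTop (coef ρ (ζ.comp (F.comp ρ ν)) v)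

theorem Frame.val_coFn (ζ : Module.Dual k M) (ν : Multiplicative (Fin F.d → ℤ)) (v : M) (y : VecGrp.pt k k ⟶ G) :
    val y (F.coFn ρ ζ ν v) = ζ (wc F.iT F.C ρ (ptAct ρ y⁻¹ v) ν) := by
  rw [Frame.coFn, val_inv_appTop, val_coef]
  rfl

/-- Top coefficients are semi-invariant. -/
theorem Frame.isSemi_coFn (ζ : Module.Dual k M) {m : ℤ} {v : M} (hv : v ∈ F.fil ρ m)
    {ν : Multiplicative (Fin F.d → ℤ)} (hν : m ≤ F.deg ν) : F.IsSemi ν⁻¹ (F.coFn ρ ζ ν v) := fun y τ p hp => by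
  rw [F.val_coFn, F.val_coFn, mul_inv_rev, mul_inv_rev, ← GrpObj.inv_comp, ptAct_mul, ptAct_mul,
    F.lower_of_bound ρ (F.fil_bound ρ (F.act_mem_fil ρ (F.act_mem_fil ρ hv _) _)) (inv_mem hp) ν hν, wc_torus,
    map_smul, smul_eq_mul, F.ptChr_inv_pt]

end coef

variable {A : Type u} [CommRing A] [Algebra k A] {ρ : VecGrp.GMod G A}

/-- A function times a fixed element. -/
def pure (f : Γ(G.left, ⊤)) (a : A) : (VecGrp.pt k k ⟶ G) → A := fun y => val y f • a

set_option maxHeartbeats 1600000 in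
/-- **Integrality.** -/
theorem Frame.isIntegral_pure {ν : Multiplicative (Fin F.d → ℤ)} {a : A}
    (ha : ∀ τ : VecGrp.pt k k ⟶ F.T, ptAct ρ (τ ≫ F.iT) a = ptChr F.C τ ν • a)
    (hfix : ∀ x ∈ F.up₁, ptAct ρ x a = a) {ξ : Module.Dual k A} (hξ : ξ a = 1) {f : Γ(G.left, ⊤)}
    (hf : F.IsSemi ν⁻¹ f) (S₀ : Subalgebra k ((VecGrp.pt k k ⟶ G) → A))
    (hS₀ : ∀ x, pure (F.coFn ρ ξ ν (ptAct ρ x a)) a ∈ S₀) : IsIntegral S₀ (pure f a) := by
  classical
  let φ : (VecGrp.pt k k ⟶ G) → Γ(G.left, ⊤) := fun x => F.coFn ρ ξ ν (ptAct ρ x a)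
  have hφ : ∀ x, F.IsSemi ν⁻¹ (φ x) := fun x =>
    F.isSemi_coFn ρ ξ (F.act_mem_fil ρ (F.mem_fil_of_fixed ρ ha hfix) x) le_rfl
  have hφ1 : ∀ x, val x (φ x) = 1 := fun x => by
    rw [F.val_coFn, ← ptAct_mul, inv_mul_cancel, ptAct_one, wc_of_wt F.iT F.C ρ ha, Finsupp.single_eq_same, hξ]
  by_cases hν : ν = 1
  · subst hν
    rw [inv_one] at hf hφ
    obtain ⟨c, hc⟩ := F.exists_const hf
    obtain ⟨c₁, hc₁⟩ := F.exists_const (hφ 1)
    have h1 : c₁ = 1 := (hc₁ 1).symm.trans (hφ1 1)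
    have e : pure f a = c • pure (φ 1) a := funext fun y => by
      show val y f • a = c • (val y (φ 1) • a)
      rw [hc, hc₁, h1, one_smul]
    rw [e]
    exact (isIntegral_algebraMap :
      IsIntegral S₀ (algebraMap S₀ ((VecGrp.pt k k ⟶ G) → A) ⟨_, S₀.smul_mem (hS₀ 1) c⟩))
  have hν' : ν⁻¹ ≠ 1 := fun h => hν (inv_eq_one.1 h)
  obtain ⟨B, _, iB, hB, hpts⟩ := F.neg.exists_borel
  obtain ⟨hBm, hBc, hBs, hBn, -, -⟩ := id hB
  haveI := hBm
  haveI := hBc
  haveI := hBs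
  haveI := hBn
  haveI : IsAffine B.left := isAffine_of_isAffineHom iB.left
  haveI : IsClosedImmersion (𝟙 B ≫ iB).left := by rw [Category.id_comp]; infer_instance
  obtain ⟨X, act, o, hX, -, -⟩ := GrassAct21.exists_quotient_affine iB
  haveI : IsProper X.hom := BorelFix21.isProper_of_borel_le hX (𝟙 B) (by rw [Category.id_comp]; exact hB)
  have hdec : ∀ q : VecGrp.pt k k ⟶ B, ∃ (τ : VecGrp.pt k k ⟶ F.T) (p : VecGrp.pt k k ⟶ G),
      p ∈ F.neg.up₁ ∧ q ≫ iB = (τ ≫ F.iT) * p := fun q => by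
    obtain ⟨τ₀, p, hp, e⟩ := F.neg.exists_torus_mul ((hpts _).1 ⟨q, rfl⟩)
    exact ⟨τ₀, p, hp, e⟩
  choose τq pq hpq hq using hdec
  have hSemi : ∀ g, F.IsSemi ν⁻¹ g → Semi iB (fun q => ptChr F.C (τq q) ν⁻¹) g := fun g hg x q => by
    rw [hq, hg x _ _ (hpq q)]
  let S : Subalgebra k Γ(G.left, ⊤) := Algebra.adjoin k (Set.range φ)
  obtain ⟨P, hPm, hP⟩ := isIntegral_of_cov hX S (hSemi f hf) fun y =>
    ⟨φ y, Algebra.subset_adjoin ⟨y, rfl⟩, hSemi _ (hφ y), by rw [hφ1]; exact one_ne_zero⟩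
  -- lift to polynomials
  let Q : Subalgebra k (Polynomial Γ(G.left, ⊤)) :=
    Algebra.adjoin k (Set.range fun x => Polynomial.C (φ x) * Polynomial.X)
  let ev1 : Polynomial Γ(G.left, ⊤) →ₐ[k] Γ(G.left, ⊤) := (Polynomial.aeval (1 : Γ(G.left, ⊤))).restrictScalars k
  have hQS : ∀ s ∈ S, ∃ p ∈ Q, ev1 p = s := by
    intro s hs
    have hle : S ≤ Q.map ev1 := Algebra.adjoin_le (by
      rintro _ ⟨x, rfl⟩
      refine ⟨_, Algebra.subset_adjoin ⟨x, rfl⟩, ?_⟩
      show Polynomial.aeval (1 : Γ(G.left, ⊤)) (Polynomial.C (φ x) * Polynomial.X) = φ x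
      simp)
    exact hle hs
  choose lift hliftQ hlift using fun i => hQS (P.coeff i).1 (P.coeff i).2
  let Y : Polynomial Γ(G.left, ⊤) := Polynomial.C f * Polynomial.X
  let N := P.natDegree
  let tot : Polynomial Γ(G.left, ⊤) := Y ^ N + ∑ i ∈ Finset.range N, lift i * Y ^ i
  have hevY : ev1 Y = f := by
    show Polynomial.aeval (1 : Γ(G.left, ⊤)) (Polynomial.C f * Polynomial.X) = f
    simp
  have htot : ev1 tot = 0 := by
    simp only [tot, map_add, map_pow, map_sum, map_mul, hevY, hlift]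
    rw [← Polynomial.aeval_def, Polynomial.aeval_eq_sum_range, Finset.sum_range_succ] at hP
    rw [add_comm, ← hP]
    congr 1
    · rw [hPm.coeff_natDegree, one_smul]
  -- the twist
  let Tw : (VecGrp.pt k k ⟶ G) → (VecGrp.pt k k ⟶ F.T) → Subalgebra k (Polynomial Γ(G.left, ⊤)) := fun y τ =>
    AlgHom.equalizer (Polynomial.mapAlgHom (val (y * (τ ≫ F.iT))))
      (((Polynomial.aeval (Polynomial.C (ptChr F.C τ ν⁻¹) * Polynomial.X : Polynomial k)).restrictScalars k).comp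
        (Polynomial.mapAlgHom (val y)))
  have hgen : ∀ g, F.IsSemi ν⁻¹ g → ∀ y τ, Polynomial.C g * Polynomial.X ∈ Tw y τ := fun g hg y τ => by
    have h1 := hg y τ 1 (one_mem _)
    rw [_root_.mul_one (τ ≫ F.iT)] at h1
    show Polynomial.mapAlgHom (val (y * (τ ≫ F.iT))) (Polynomial.C g * Polynomial.X) =
      ((Polynomial.aeval (Polynomial.C (ptChr F.C τ ν⁻¹) * Polynomial.X : Polynomial k)).restrictScalars k).comp
        (Polynomial.mapAlgHom (val y)) (Polynomial.C g * Polynomial.X)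
    simp [h1]
    ring
  have htw : ∀ y τ, tot ∈ Tw y τ := fun y τ => by
    have hQle : Q ≤ Tw y τ := Algebra.adjoin_le (by
      rintro _ ⟨x, rfl⟩
      exact hgen _ (hφ x) y τ)
    exact Subalgebra.add_mem _ (Subalgebra.pow_mem _ (hgen f hf y τ) _)
      (Subalgebra.sum_mem _ fun i _ => Subalgebra.mul_mem _ (hQle (hliftQ i)) (Subalgebra.pow_mem _ (hgen f hf y τ) _))
  have hzero : ∀ y, Polynomial.mapAlgHom (val y) tot = 0 := fun y => by
    refine Polynomial.eq_zero_of_infinite_isRoot _ ((Set.finite_singleton (0 : k)).infinite_compl.mono fun t ht => ?_)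
    obtain ⟨τ, hτ⟩ := F.exists_ptChr_eq hν' ht
    have h1 := congrArg (Polynomial.eval 1) (htw y τ :
      Polynomial.mapAlgHom (val (y * (τ ≫ F.iT))) tot =
      ((Polynomial.aeval (Polynomial.C (ptChr F.C τ ν⁻¹) * Polynomial.X : Polynomial k)).restrictScalars k).comp
        (Polynomial.mapAlgHom (val y)) tot)
    have hL : Polynomial.eval 1 (Polynomial.mapAlgHom (val (y * (τ ≫ F.iT))) tot) =
        val (y * (τ ≫ F.iT)) (ev1 tot) := by
      show _ = val (y * (τ ≫ F.iT)) (Polynomial.aeval (1 : Γ(G.left, ⊤)) tot)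
      rw [Polynomial.coe_mapAlgHom, Polynomial.eval_map, Polynomial.coe_aeval_eq_eval,
        ← map_one (val (y * (τ ≫ F.iT)))]
      exact Polynomial.eval₂_at_apply (val (y * (τ ≫ F.iT))).toRingHom 1
    rw [hL, htot, map_zero] at h1
    rw [Set.mem_setOf_eq, Polynomial.IsRoot, h1, AlgHom.comp_apply, AlgHom.restrictScalars_apply,
      Polynomial.aeval_def, Polynomial.algebraMap_eq, ← Polynomial.comp, Polynomial.eval_comp]
    simp [hτ]
  -- evaluate
  let ev : Polynomial Γ(G.left, ⊤) →ₐ[k] ((VecGrp.pt k k ⟶ G) → A) :=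
    Pi.algHom k _ fun y => ((Polynomial.aeval a).restrictScalars k).comp (Polynomial.mapAlgHom (val y))
  have hev : ∀ g, ev (Polynomial.C g * Polynomial.X) = pure g a := fun g => funext fun y => by
    show Polynomial.aeval a (Polynomial.mapAlgHom (val y) (Polynomial.C g * Polynomial.X)) = val y g • a
    simp [Algebra.smul_def]
  have hev0 : ev tot = 0 := funext fun y => by
    show Polynomial.aeval a (Polynomial.mapAlgHom (val y) tot) = 0
    rw [hzero, map_zero]
  have hevQ : ∀ i, ev (lift i) ∈ S₀ := fun i => by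
    have hle : Q.map ev ≤ S₀ := by
      rw [AlgHom.map_adjoin]
      refine Algebra.adjoin_le ?_
      rintro _ ⟨_, ⟨x, rfl⟩, rfl⟩
      rw [hev]
      exact hS₀ x
    exact hle ⟨_, hliftQ i, rfl⟩
  refine ⟨Polynomial.X ^ N + ∑ i ∈ Finset.range N, Polynomial.C (⟨_, hevQ i⟩ : S₀) * Polynomial.X ^ i,
    Polynomial.monic_X_pow_add ?_, ?_⟩
  · refine (Polynomial.degree_sum_le _ _).trans_lt ((Finset.sup_lt_iff (WithBot.bot_lt_coe N)).2 fun i hi => ?_)
    exact (Polynomial.degree_C_mul_X_pow_le i _).trans_lt (WithBot.coe_lt_coe.2 (Finset.mem_range.1 hi))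
  · rw [Polynomial.eval₂_add, Polynomial.eval₂_X_pow, Polynomial.eval₂_finsetSum, ← hev0]
    simp only [tot, map_add, map_pow, map_sum, map_mul, Y]
    rw [← hev f, map_mul]
    congr 1
    refine Finset.sum_congr rfl fun i _ => ?_
    rw [Polynomial.eval₂_mul, Polynomial.eval₂_C, Polynomial.eval₂_X_pow]
    rfl

end Groth.Agent.UMod21
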