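import Groth.Agent.Lib.UMod21.Integral
import Mathlib.RingTheory.Adjoin.Tower
import Mathlib.RingTheory.IntegralClosure.IsIntegralClosure.Basic

/-!
# An algebra with finitely generated invariants of a maximal unipotent subgroup is finitely generated
-/

set_option autoImplicit false
set_option linter.style.haveILetI false
set_option backward.isDefEq.respectTransparency.types false
universe u

open CategoryTheory Limits MonoidalCategory CartesianMonoidalCategory MonObj AlgebraicGeometry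

noncomputable section

namespace Groth.Agent.UMod21

open InvRing21 DiagGL TorPts21 UInvFG21 BorelLam21

attribute [local instance] InvRing21.gamAlg BorelFix21.ptsTop

theorem mem_adjoin_finset {R A : Type*} [CommRing R] [CommRing A] [Algebra R A] {s : Set A} {x : A}
    (hx : x ∈ Algebra.adjoin R s) : ∃ t : Finset A, (t : Set A) ⊆ s ∧ x ∈ Algebra.adjoin R (t : Set A) := by
  classical
  induction hx using Algebra.adjoin_induction with
  | mem x hx => exact ⟨{x}, by simpa using hx, Algebra.subset_adjoin (by simp)⟩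
  | algebraMap r => exact ⟨∅, by simp, Subalgebra.algebraMap_mem _ r⟩
  | add x y _ _ hx hy =>
    obtain ⟨t, ht, hxt⟩ := hx
    obtain ⟨t', ht', hyt⟩ := hy
    exact ⟨t ∪ t', by rw [Finset.coe_union]; exact Set.union_subset ht ht',
      Subalgebra.add_mem _ (Algebra.adjoin_mono (by simp) hxt) (Algebra.adjoin_mono (by simp) hyt)⟩
  | mul x y _ _ hx hy =>
    obtain ⟨t, ht, hxt⟩ := hx
    obtain ⟨t', ht', hyt⟩ := hy
    exact ⟨t ∪ t', by rw [Finset.coe_union]; exact Set.union_subset ht ht',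
      Subalgebra.mul_mem _ (Algebra.adjoin_mono (by simp) hxt) (Algebra.adjoin_mono (by simp) hyt)⟩

variable {k : Type u} [Field k] [IsAlgClosed k] {G : Over (Spec (CommRingCat.of k))} [GrpObj G] [IsAffine G.left]
  [Smooth G.hom] [ConnectedSpace G.left] (F : Frame G)

section Module

variable {M : Type u} [AddCommGroup M] [Module k M] (ρ : VecGrp.GMod G M)

/-- The top parts of the translates. -/
def Frame.psi (m : ℤ) : M →ₗ[k] ((VecGrp.pt k k ⟶ G) → M) :=
  LinearMap.pi fun y => (F.part ρ fun ω => F.deg ω = m).comp (actLin ρ y⁻¹)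

theorem Frame.psi_apply (m : ℤ) (v : M) (y : VecGrp.pt k k ⟶ G) :
    F.psi ρ m v y = F.part ρ (fun ω => F.deg ω = m) (ptAct ρ y⁻¹ v) := rfl

end Module

variable {A : Type u} [CommRing A] [Algebra k A] {ρ : VecGrp.GMod G A} (hρ : ρ.IsMult)

/-- The elements fixed by the points contracted to the identity. -/
def Frame.fixed : Subalgebra k A := ⨅ x ∈ F.up₁, AlgHom.equalizer (ptAlg hρ x) (AlgHom.id k A)

theorem Frame.mem_fixed {a : A} : a ∈ F.fixed hρ ↔ ∀ x ∈ F.up₁, ptAct ρ x a = a := by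
  simp [Frame.fixed, Algebra.mem_iInf, ptAlg_apply]

include hρ in
theorem Frame.wc_mul (x y : A) : wc F.iT F.C ρ (x * y) =
    (wc F.iT F.C ρ x).sum fun i a => (wc F.iT F.C ρ y).sum fun j b => Finsupp.single (i * j) (a * b) := by
  conv_lhs => rw [← sum_wc F.iT F.C ρ x, ← sum_wc F.iT F.C ρ y, Finsupp.sum, Finsupp.sum, Finset.sum_mul_sum]
  rw [map_sum]
  refine Finset.sum_congr rfl fun i _ => ?_
  rw [map_sum]
  exact Finset.sum_congr rfl fun j _ =>
    wc_of_wt F.iT F.C ρ (wc_mul_of_wt F.iT F.C hρ (act_wc F.iT F.C ρ x i) (act_wc F.iT F.C ρ y j))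

include hρ in
theorem Frame.mul_mem_fil {m m' : ℤ} {x y : A} (hx : x ∈ F.fil ρ m) (hy : y ∈ F.fil ρ m') :
    x * y ∈ F.fil ρ (m + m') := (F.mem_fil ρ).2 fun g ν hν => by
  classical
  rw [← ptAlg_apply hρ, map_mul, ptAlg_apply, ptAlg_apply, F.wc_mul hρ, Finsupp.sum_apply]
  refine Finset.sum_eq_zero fun i hi => ?_
  dsimp only
  rw [Finsupp.sum_apply]
  refine Finset.sum_eq_zero fun j hj => Finsupp.single_eq_of_ne fun e => ?_
  have h1 : F.deg i ≤ m := not_lt.1 fun h => Finsupp.mem_support_iff.1 hi ((F.mem_fil ρ).1 hx g i h)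
  have h2 : F.deg j ≤ m' := not_lt.1 fun h => Finsupp.mem_support_iff.1 hj ((F.mem_fil ρ).1 hy g j h)
  rw [e, F.deg_mul] at hν
  omega

include hρ in
/-- The top part is multiplicative. -/
theorem Frame.part_mul {m m' : ℤ} {x y : A} (hx : ∀ ν, m < F.deg ν → wc F.iT F.C ρ x ν = 0)
    (hy : ∀ ν, m' < F.deg ν → wc F.iT F.C ρ y ν = 0) :
    F.part ρ (fun ω => F.deg ω = m + m') (x * y) =
      F.part ρ (fun ω => F.deg ω = m) x * F.part ρ (fun ω => F.deg ω = m') y := by
  classical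
  have h : ∀ i j, (wc F.iT F.C ρ x i ≠ 0) → (wc F.iT F.C ρ y j ≠ 0) →
      (F.deg (i * j) = m + m' ↔ F.deg i = m ∧ F.deg j = m') := fun i j hi hj => by
    have h1 : F.deg i ≤ m := not_lt.1 fun h => hi (hx i h)
    have h2 : F.deg j ≤ m' := not_lt.1 fun h => hj (hy j h)
    rw [F.deg_mul]
    omega
  conv_lhs => rw [← sum_wc F.iT F.C ρ x, ← sum_wc F.iT F.C ρ y, Finsupp.sum, Finsupp.sum, Finset.sum_mul_sum]
  rw [map_sum, F.part_apply ρ _ x, F.part_apply ρ _ y, Finset.sum_mul_sum]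
  simp only [map_sum]
  rw [Finset.sum_filter]
  refine Finset.sum_congr rfl fun i hi => ?_
  rw [Finset.sum_filter]
  have hwt : ∀ j, wc F.iT F.C ρ (wc F.iT F.C ρ x i * wc F.iT F.C ρ y j) =
      Finsupp.single (i * j) (wc F.iT F.C ρ x i * wc F.iT F.C ρ y j) := fun j =>
    wc_of_wt F.iT F.C ρ (wc_mul_of_wt F.iT F.C hρ (act_wc F.iT F.C ρ x i) (act_wc F.iT F.C ρ y j))
  have hpart : ∀ j, F.part ρ (fun ω => F.deg ω = m + m') (wc F.iT F.C ρ x i * wc F.iT F.C ρ y j) =
      if F.deg (i * j) = m + m' then wc F.iT F.C ρ x i * wc F.iT F.C ρ y j else 0 := fun j => by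
    refine F.ext_wc ρ fun ω => ?_
    rw [F.wc_part]
    by_cases hω : ω = i * j
    · subst hω
      split_ifs
      · rfl
      · rw [map_zero, Finsupp.zero_apply]
    · rw [hwt, Finsupp.single_eq_of_ne hω, ite_self]
      split_ifs
      · rw [hwt, Finsupp.single_eq_of_ne hω]
      · rw [map_zero, Finsupp.zero_apply]
  by_cases hdi : F.deg i = m
  · rw [if_pos hdi]
    refine Finset.sum_congr rfl fun j hj => ?_
    have hij := h i j (Finsupp.mem_support_iff.1 hi) (Finsupp.mem_support_iff.1 hj)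
    rw [hpart]
    split_ifs with h1 h2 h2
    · rfl
    · exact absurd (hij.1 h1).2 h2
    · exact absurd (hij.2 ⟨hdi, h2⟩) h1
    · rfl
  · rw [if_neg hdi]
    refine Finset.sum_eq_zero fun j hj => ?_
    rw [hpart, if_neg]
    rw [h i j (Finsupp.mem_support_iff.1 hi) (Finsupp.mem_support_iff.1 hj)]
    exact fun e => hdi e.1

include hρ in
theorem Frame.psi_mul {m m' : ℤ} {x y : A} (hx : x ∈ F.fil ρ m) (hy : y ∈ F.fil ρ m') :
    F.psi ρ (m + m') (x * y) = F.psi ρ m x * F.psi ρ m' y := funext fun g => by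
  rw [Pi.mul_apply, F.psi_apply, F.psi_apply, F.psi_apply, ← ptAlg_apply hρ, map_mul, ptAlg_apply, ptAlg_apply]
  exact F.part_mul hρ ((F.mem_fil ρ).1 hx _) ((F.mem_fil ρ).1 hy _)
variable (ρ) in
/-- The top parts of a set of vectors. -/
def Frame.tops (C : Subalgebra k A) : Set ((VecGrp.pt k k ⟶ G) → A) :=
  {Φ | ∃ m v, v ∈ C ∧ v ∈ F.fil ρ m ∧ F.psi ρ m v = Φ}

include hρ in
theorem Frame.one_mem_fil : (1 : A) ∈ F.fil ρ 0 := by
  have hwt1 : ∀ τ : VecGrp.pt k k ⟶ F.T, ptAct ρ (τ ≫ F.iT) (1 : A) = ptChr F.C τ 1 • (1 : A) := fun τ => by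
    rw [← ptAlg_apply hρ, map_one, map_one, one_smul]
  have := F.mem_fil_of_fixed ρ hwt1 fun x _ => by rw [← ptAlg_apply hρ, map_one]
  rwa [F.deg_one] at this

include hρ in
theorem Frame.psi_one : F.psi ρ 0 (1 : A) = 1 := funext fun y => by
  rw [F.psi_apply, ← ptAlg_apply hρ, map_one]
  refine F.part_of_forall ρ fun ω hω => ?_
  rw [wc_of_wt F.iT F.C ρ (ω := 1) fun τ => by rw [← ptAlg_apply hρ, map_one, map_one, one_smul],
    Finsupp.single_eq_of_ne]
  rintro rfl
  exact hω F.deg_one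

include hρ in
/-- The algebra generated by the top parts is spanned by them. -/
theorem Frame.mem_span_tops (C : Subalgebra k A) {Φ : (VecGrp.pt k k ⟶ G) → A}
    (hΦ : Φ ∈ Algebra.adjoin k (F.tops ρ C)) : Φ ∈ Submodule.span k (F.tops ρ C) := by
  have h1 : Φ ∈ Subalgebra.toSubmodule (Algebra.adjoin k (F.tops ρ C)) := hΦ
  rw [Algebra.adjoin_eq_span] at h1
  refine Submodule.span_mono (fun Ψ hΨ => ?_) h1
  induction hΨ using Submonoid.closure_induction with
  | mem x hx => exact hx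
  | one => exact ⟨0, 1, C.one_mem, F.one_mem_fil hρ, F.psi_one hρ⟩
  | mul x y _ _ hx hy =>
    obtain ⟨m, v, hvC, hv, rfl⟩ := hx
    obtain ⟨m', v', hvC', hv', rfl⟩ := hy
    exact ⟨m + m', v * v', C.mul_mem hvC hvC', F.mul_mem_fil hρ hv hv', F.psi_mul hρ hv hv'⟩

set_option maxHeartbeats 3200000 in
include hρ in
/-- The top parts form a finite module over those of a stable subalgebra containing the invariants. -/
theorem Frame.exists_tops (hFG : (F.fixed hρ).FG) (C : Subalgebra k A)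
    (hst : ∀ g : VecGrp.pt k k ⟶ G, ∀ c ∈ C, ptAct ρ g c ∈ C) (hfixC : F.fixed hρ ≤ C) :
    ∃ T : Finset (ℤ × A), (∀ p ∈ T, p.2 ∈ F.fil ρ p.1) ∧ ∀ m, ∀ v ∈ F.fil ρ m, F.psi ρ m v ∈ Submodule.span k
      {Φ | ∃ (n : ℤ) (c : A) (p : ℤ × A), c ∈ C ∧ c ∈ F.fil ρ n ∧ p ∈ T ∧ F.psi ρ n c * F.psi ρ p.1 p.2 = Φ} := by
  classical
  obtain ⟨t, ht⟩ := hFG
  let S1 : Finset (Multiplicative (Fin F.d → ℤ) × A) :=
    t.biUnion fun a => (wc F.iT F.C ρ a).support.image fun ω => (ω, wc F.iT F.C ρ a ω)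
  let e1 := S1.equivFin.symm
  let nu : Fin S1.card → Multiplicative (Fin F.d → ℤ) := fun i => (e1 i).1.1
  let al : Fin S1.card → A := fun i => (e1 i).1.2
  have hal : ∀ i, (∀ τ, ptAct ρ (τ ≫ F.iT) (al i) = ptChr F.C τ (nu i) • al i) ∧ al i ∈ F.fixed hρ := fun i => by
    obtain ⟨a, ha, h2⟩ := Finset.mem_biUnion.1 (e1 i).2
    obtain ⟨ω, -, hω⟩ := Finset.mem_image.1 h2
    have hai : (e1 i).1 = (ω, wc F.iT F.C ρ a ω) := hω.symm
    refine ⟨fun τ => ?_, (F.mem_fixed hρ).2 ?_⟩ <;> simp only [al, nu, hai]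
    · exact act_wc F.iT F.C ρ a ω τ
    · exact F.wc_fixed ρ ((F.mem_fixed hρ).1 (ht ▸ Algebra.subset_adjoin ha)) ω
  have hgenA : F.fixed hρ ≤ Algebra.adjoin k (Set.range al) := ht ▸ Algebra.adjoin_le fun a ha => by
    rw [← sum_wc F.iT F.C ρ a, SetLike.mem_coe]
    refine Subalgebra.sum_mem _ fun ω hω => Algebra.subset_adjoin ?_
    refine ⟨e1.symm ⟨(ω, wc F.iT F.C ρ a ω), Finset.mem_biUnion.2 ⟨a, ha, Finset.mem_image.2 ⟨ω, hω, rfl⟩⟩⟩, ?_⟩
    simp [al]
  obtain ⟨s, wg, g, hg, hgen⟩ := F.exists_semi_gens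
  let w : Fin (S1.card + s) → Multiplicative (Fin F.d → ℤ) := Fin.append nu wg
  let z : Fin (S1.card + s) → ((VecGrp.pt k k ⟶ G) → A) := Fin.append (fun i _ => al i) (fun j => pure (g j) 1)
  let mon : (Fin (S1.card + s) → ℕ) → ((VecGrp.pt k k ⟶ G) → A) := fun e => ∏ i, z i ^ e i
  obtain ⟨Mn, hMn, hle⟩ := exists_finset_le fun e : Fin (S1.card + s) → ℕ => (∏ i, w i ^ e i = 1) ∧ e ≠ 0
  let R : Subalgebra k ((VecGrp.pt k k ⟶ G) → A) := Algebra.adjoin k (mon '' (Mn : Set (Fin (S1.card + s) → ℕ)))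
  have hker : ∀ N, ∀ e : Fin (S1.card + s) → ℕ, (∑ i, e i) = N → (∏ i, w i ^ e i = 1) → mon e ∈ R := by
    intro N
    induction N using Nat.strong_induction_on with
    | _ N ih =>
      intro e heN he
      by_cases h0 : e = 0
      · subst h0
        simp only [mon, Pi.zero_apply, pow_zero, Finset.prod_const_one]
        exact R.one_mem
      obtain ⟨y, hy, hye⟩ := hle e ⟨he, h0⟩
      obtain ⟨hyw, hy0⟩ := hMn y hy
      have hsplit : mon e = mon y * mon (e - y) := by
        simp only [mon, ← Finset.prod_mul_distrib]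
        exact Finset.prod_congr rfl fun i _ => by rw [← pow_add, Pi.sub_apply, Nat.add_sub_cancel' (hye i)]
      rw [hsplit]
      refine R.mul_mem (Algebra.subset_adjoin ⟨y, hy, rfl⟩) (ih _ ?_ (e - y) rfl ?_)
      · obtain ⟨i, hi⟩ := Function.ne_iff.1 hy0
        rw [← heN]
        have hi' : 0 < y i := Nat.pos_of_ne_zero hi
        refine Finset.sum_lt_sum (fun l _ => Nat.sub_le _ _) ⟨i, Finset.mem_univ _, ?_⟩
        have := hye i
        exact Nat.sub_lt (lt_of_lt_of_le hi' this) hi'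
      · have h1 : ∏ i, w i ^ e i = (∏ i, w i ^ y i) * ∏ i, w i ^ (e - y) i := by
          rw [← Finset.prod_mul_distrib]
          exact Finset.prod_congr rfl fun i _ => by rw [← pow_add, Pi.sub_apply, Nat.add_sub_cancel' (hye i)]
        rw [he, hyw, _root_.one_mul] at h1
        exact h1.symm
  have hmon : ∀ (e1' : Fin S1.card → ℕ) (e2 : Fin s → ℕ),
      mon (Fin.append e1' e2) = pure (∏ j, g j ^ e2 j) (∏ i, al i ^ e1' i) := fun e1' e2 => funext fun y => by
    simp only [mon, z, Fin.prod_univ_add, Fin.append_left, Fin.append_right, Pi.mul_apply, Finset.prod_apply,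
      Pi.pow_apply, UMod21.pure, map_prod, map_pow, Algebra.smul_def, _root_.mul_one]
    ring
  have hwmon : ∀ (e1' : Fin S1.card → ℕ) (e2 : Fin s → ℕ),
      ∏ i, w i ^ Fin.append e1' e2 i = (∏ i, nu i ^ e1' i) * ∏ j, wg j ^ e2 j := fun e1' e2 => by
    simp only [w, Fin.prod_univ_add, Fin.append_left, Fin.append_right]
  have halm : ∀ e : Fin S1.card → ℕ, (∀ τ, ptAct ρ (τ ≫ F.iT) (∏ i, al i ^ e i) =
      ptChr F.C τ (∏ i, nu i ^ e i) • ∏ i, al i ^ e i) ∧ ∀ x ∈ F.up₁, ptAct ρ x (∏ i, al i ^ e i) = ∏ i, al i ^ e i := by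
    intro e
    refine ⟨fun τ => ?_, (F.mem_fixed hρ).1 (Subalgebra.prod_mem _ fun i _ => Subalgebra.pow_mem _ (hal i).2 _)⟩
    rw [← ptAlg_apply hρ, map_prod, map_prod]
    simp only [map_pow, ptAlg_apply, (hal _).1, Algebra.smul_def, mul_pow, Finset.prod_mul_distrib]
    rw [map_prod]
    simp only [map_pow]
  let S : Subalgebra k ((VecGrp.pt k k ⟶ G) → A) := Algebra.adjoin k (F.tops ρ C)
  have hall : Algebra.adjoin k (F.tops ρ ⊤) ≤ R := by
    refine Algebra.adjoin_le ?_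
    rintro _ ⟨m, v, -, hv, rfl⟩
    obtain ⟨W₀, hW₀f, hvW, hW₀⟩ := exists_finite_stableSub ρ {v}
    haveI := hW₀f
    let W : Submodule k A := W₀ ⊓ F.fil ρ m
    haveI : FiniteDimensional k W := Submodule.finiteDimensional_inf_left _ _
    have hWst : ∀ g, ∀ x ∈ W, ptAct ρ g x ∈ W := fun g x hx => ⟨hW₀ g x hx.1, F.act_mem_fil ρ hx.2 g⟩
    let bW := Module.finBasis k W
    choose ξ hξ using fun j => LinearMap.exists_extend (bW.coord j)
    let Ω : Finset (Multiplicative (Fin F.d → ℤ)) :=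
      (Finset.univ.biUnion fun j => (wc F.iT F.C ρ (bW j : A)).support).filter fun ω => F.deg ω = m
    have hvW' : ∀ y : VecGrp.pt k k ⟶ G, ptAct ρ y⁻¹ v ∈ W := fun y =>
      hWst _ v ⟨hvW v (Finset.mem_singleton_self v), hv⟩
    have hexp : F.psi ρ m v = ∑ ω ∈ Ω, ∑ j, pure (F.coFn ρ (ξ j) ω v) (wc F.iT F.C ρ (bW j : A) ω) := by
      funext y
      simp only [Finset.sum_apply, UMod21.pure, F.val_coFn]
      have hcomp : ∀ (u : A), u ∈ W → ∀ ω, wc F.iT F.C ρ u ω =
          ∑ j, (ξ j) (wc F.iT F.C ρ u ω) • wc F.iT F.C ρ (bW j : A) ω := fun u hu ω => by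
        have hmem : wc F.iT F.C ρ u ω ∈ W := wc_mem F.iT F.C ρ (fun τ => hWst _ u hu) ω
        have h1 := congrArg Subtype.val (bW.sum_repr ⟨_, hmem⟩)
        rw [Submodule.coe_sum] at h1
        have h2 := congrArg (F.comp ρ ω) h1
        simp only [map_sum, Submodule.coe_smul, map_smul, F.comp_apply, Finsupp.finsetSum_apply, Finsupp.smul_apply, wc_wc, Finsupp.single_eq_same] at h2
        refine h2.symm.trans (Finset.sum_congr rfl fun j _ => ?_)
        congr 1
        exact (DFunLike.congr_fun (hξ j) ⟨_, hmem⟩).symm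
      rw [F.psi_apply]
      refine F.ext_wc ρ fun ν => ?_
      rw [F.wc_part, map_sum, Finsupp.finsetSum_apply]
      have hin : ∀ ω, (∑ j, (ξ j) (wc F.iT F.C ρ (ptAct ρ y⁻¹ v) ω) • wc F.iT F.C ρ (bW j : A) ω) =
          wc F.iT F.C ρ (ptAct ρ y⁻¹ v) ω := fun ω => (hcomp _ (hvW' y) ω).symm
      simp only [hin, wc_wc, Finsupp.single_apply, Finset.sum_ite_eq']
      by_cases hν : F.deg ν = m
      · rw [if_pos hν]
        split_ifs with hνΩ
        · rfl
        · rw [← hin ν]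
          refine Finset.sum_eq_zero fun j _ => ?_
          rw [show wc F.iT F.C ρ (bW j : A) ν = 0 from ?_, smul_zero]
          by_contra hne
          exact hνΩ (Finset.mem_filter.2 ⟨Finset.mem_biUnion.2 ⟨j, Finset.mem_univ _, Finsupp.mem_support_iff.2 hne⟩, hν⟩)
      · rw [if_neg hν]
        split_ifs with h
        · exact absurd (Finset.mem_filter.1 h).2 hν
        · rfl
    rw [SetLike.mem_coe, hexp]
    refine R.sum_mem fun ω hω => R.sum_mem fun j _ => ?_
    have hωm : F.deg ω = m := (Finset.mem_filter.1 hω).2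
    have hf : F.IsSemi ω⁻¹ (F.coFn ρ (ξ j) ω v) := F.isSemi_coFn ρ _ hv hωm.ge
    have hfm : F.coFn ρ (ξ j) ω v ∈ Submodule.span k ((fun e : Fin s → ℕ => ∏ j, g j ^ e j) ''
        {e | ∏ j, wg j ^ e j = ω⁻¹}) :=
      F.mem_span_monomials hg hf (hgen _ fun y p hp => by
        simpa [MonObj.one_comp, ptChr_one] using hf y 1 p hp)
    set a := wc F.iT F.C ρ (bW j : A) ω with ha
    have ham : a ∈ Submodule.span k ((fun e : Fin S1.card → ℕ => ∏ i, al i ^ e i) '' {e | ∏ i, nu i ^ e i = ω}) := by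
      have h1 : a ∈ Algebra.adjoin k (Set.range al) :=
        hgenA ((F.mem_fixed hρ).2 fun x hx => F.top_fixed ρ (bW j).2.2 hωm.ge hx)
      rw [Algebra.adjoin_range_eq_range_aeval, AlgHom.mem_range] at h1
      obtain ⟨p, hp⟩ := h1
      have hsum : MvPolynomial.aeval al p = ∑ e ∈ p.support, MvPolynomial.coeff e p • ∏ i, al i ^ e i := by
        rw [MvPolynomial.aeval_def, MvPolynomial.eval₂_eq']
        exact Finset.sum_congr rfl fun e _ => (Algebra.smul_def _ _).symm
      have h2 : a = wc F.iT F.C ρ a ω := by rw [ha, wc_wc, Finsupp.single_eq_same]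
      rw [h2, ← hp, hsum, map_sum, Finsupp.finsetSum_apply]
      refine Submodule.sum_mem _ fun e _ => ?_
      rw [map_smul, Finsupp.smul_apply, wc_of_wt F.iT F.C ρ (halm e).1, Finsupp.single_apply]
      refine Submodule.smul_mem _ _ ?_
      split_ifs with he
      · exact Submodule.subset_span ⟨_, he, rfl⟩
      · exact zero_mem _
    clear ha
    clear_value a
    induction ham using Submodule.span_induction with
    | zero => rw [show pure (F.coFn ρ (ξ j) ω v) (0 : A) = 0 from funext fun y => smul_zero _]; exact R.zero_mem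
    | add x y _ _ hx hy =>
      rw [show pure (F.coFn ρ (ξ j) ω v) (x + y) = pure (F.coFn ρ (ξ j) ω v) x + pure (F.coFn ρ (ξ j) ω v) y from
        funext fun _ => smul_add _ _ _]
      exact R.add_mem hx hy
    | smul c x _ hx =>
      rw [show pure (F.coFn ρ (ξ j) ω v) (c • x) = c • pure (F.coFn ρ (ξ j) ω v) x from funext fun _ => smul_comm _ _ _]
      exact R.smul_mem hx c
    | mem x hx =>
      obtain ⟨e, he, rfl⟩ := hx
      revert hfm
      generalize F.coFn ρ (ξ j) ω v = f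
      intro hfm
      induction hfm using Submodule.span_induction with
      | zero => rw [show pure (0 : Γ(G.left, ⊤)) (∏ i, al i ^ e i) = 0 from funext fun y => by
          show val y 0 • _ = (0 : A)
          rw [map_zero, zero_smul]]; exact R.zero_mem
      | add f f' _ _ hf hf' =>
        rw [show pure (f + f') (∏ i, al i ^ e i) = pure f (∏ i, al i ^ e i) + pure f' (∏ i, al i ^ e i) from
          funext fun y => by show val y (f + f') • _ = _; rw [map_add, add_smul]; rfl]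
        exact R.add_mem hf hf'
      | smul c f _ hf =>
        rw [show pure (c • f) (∏ i, al i ^ e i) = c • pure f (∏ i, al i ^ e i) from
          funext fun y => by show val y (c • f) • _ = _; rw [map_smul, smul_assoc]; rfl]
        exact R.smul_mem hf c
      | mem f hf =>
        obtain ⟨e', he', rfl⟩ := hf
        show pure (∏ j, g j ^ e' j) (∏ i, al i ^ e i) ∈ R
        rw [← hmon]
        refine hker _ (Fin.append e e') rfl ?_
        rw [hwmon, show ∏ i, nu i ^ e i = ω from he, show ∏ j, wg j ^ e' j = ω⁻¹ from he', mul_inv_cancel]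
  have hint : ∀ e ∈ Mn, IsIntegral S (mon e) := by
    intro e he
    rw [← Fin.append_castAdd_natAdd (f := e), hmon]
    set e₁ := fun i => e (Fin.castAdd s i)
    set e₂ := fun j => e (Fin.natAdd S1.card j)
    obtain ⟨hew, -⟩ := hMn e he
    rw [← Fin.append_castAdd_natAdd (f := e), hwmon] at hew
    obtain ⟨ha1, ha2⟩ := halm e₁
    set a := ∏ i, al i ^ e₁ i with ha
    by_cases ha0 : a = 0
    · rw [show pure (∏ j, g j ^ e₂ j) a = 0 from funext fun y => by
        show val y _ • a = (0 : A); rw [ha0, smul_zero]]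
      exact isIntegral_zero
    obtain ⟨ξ, hξ⟩ : ∃ ξ : Module.Dual k A, ξ a ≠ 0 := by
      by_contra! h
      exact ha0 ((Module.forall_dual_apply_eq_zero_iff k a).1 h)
    have hξ1 : ((ξ a)⁻¹ • ξ) a = 1 := by rw [LinearMap.smul_apply, smul_eq_mul, inv_mul_cancel₀ hξ]
    refine F.isIntegral_pure ha1 ha2 hξ1 ((inv_eq_of_mul_eq_one_right hew).symm ▸ F.isSemi_prod hg e₂) S fun x => ?_
    refine Algebra.subset_adjoin ⟨F.deg (∏ i, nu i ^ e₁ i), ptAct ρ x a,
      hst x a (hfixC ((F.mem_fixed hρ).2 ha2)), F.act_mem_fil ρ (F.mem_fil_of_fixed ρ ha1 ha2) x, funext fun y => ?_⟩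
    rw [F.psi_apply]
    show _ = val y _ • a
    rw [F.val_coFn, ← ptAct_mul]
    refine F.ext_wc ρ fun ω => ?_
    rw [F.wc_part, map_smul, Finsupp.smul_apply]
    split_ifs with hω
    · exact F.orbit_top ρ ha1 ha2 _ hξ1 _ ω hω.ge
    · rw [wc_of_wt F.iT F.C ρ ha1, Finsupp.single_eq_of_ne, smul_zero]
      rintro rfl
      exact hω rfl
  -- `R` is finite over `S`
  have hSR : S ≤ R := le_trans (Algebra.adjoin_mono fun Φ hΦ => by
    obtain ⟨m, v, -, hv, e⟩ := hΦ
    exact ⟨m, v, Algebra.mem_top, hv, e⟩) hall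
  letI : Algebra S R := (Subalgebra.inclusion hSR).toRingHom.toAlgebra
  haveI : IsScalarTower k S R := IsScalarTower.of_algebraMap_eq fun c => ((Subalgebra.inclusion hSR).commutes c).symm
  haveI : Algebra.FiniteType k R :=
    (Subalgebra.fg_iff_finiteType _).1 ⟨Mn.image mon, by rw [Finset.coe_image]⟩
  haveI : Algebra.FiniteType S R := Algebra.FiniteType.of_restrictScalars_finiteType k S R
  let val' : R →ₐ[S] ((VecGrp.pt k k ⟶ G) → A) := { R.val.toRingHom with commutes' := fun _ => rfl }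
  haveI : Algebra.IsIntegral S R := ⟨fun x => by
    refine (isIntegral_algHom_iff val' Subtype.val_injective).1 ?_
    obtain ⟨x, hx⟩ := x
    show IsIntegral S x
    induction hx using Algebra.adjoin_induction with
    | mem x hx =>
      obtain ⟨e, he, rfl⟩ := hx
      exact hint e he
    | algebraMap c =>
      exact (isIntegral_algebraMap :
        IsIntegral S (algebraMap S ((VecGrp.pt k k ⟶ G) → A) (algebraMap k S c)))
    | add x y _ _ hx hy => exact hx.add hy
    | mul x y _ _ hx hy => exact hx.mul hy⟩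
  haveI : Module.Finite S R := Algebra.IsIntegral.finite
  haveI : Algebra.FiniteType k S := ⟨fg_of_fg_of_fg k S R Algebra.FiniteType.out Module.Finite.fg_top
    (Subalgebra.inclusion_injective hSR)⟩
  haveI : IsNoetherianRing S := Algebra.FiniteType.isNoetherianRing k S
  let N : Submodule S R :=
    { carrier := {x | x.1 ∈ Algebra.adjoin k (F.tops ρ ⊤)}
      add_mem' := fun {x y} hx hy =>
        show x.1 + y.1 ∈ Algebra.adjoin k (F.tops ρ ⊤) from (Algebra.adjoin k (F.tops ρ ⊤)).add_mem hx hy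
      zero_mem' := (Algebra.adjoin k (F.tops ρ ⊤)).zero_mem
      smul_mem' := fun s x hx => by
        show s.1 * x.1 ∈ Algebra.adjoin k (F.tops ρ ⊤)
        refine Subalgebra.mul_mem _ ?_ (show x.1 ∈ Algebra.adjoin k (F.tops ρ ⊤) from hx)
        exact Algebra.adjoin_mono (s := F.tops ρ C) (t := F.tops ρ ⊤) (fun Φ hΦ => by
          obtain ⟨m, v, -, hv, e⟩ := hΦ
          exact ⟨m, v, Algebra.mem_top, hv, e⟩) s.2 }
  obtain ⟨nS, hnS⟩ := IsNoetherian.noetherian N
  have hfin : ∀ x : R, x ∈ nS → ∃ W : Finset ((VecGrp.pt k k ⟶ G) → A),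
      (↑W ⊆ F.tops ρ ⊤) ∧ x.1 ∈ Submodule.span k (W : Set ((VecGrp.pt k k ⟶ G) → A)) := by
    intro x hx
    have hxN : x ∈ N := hnS ▸ Submodule.subset_span hx
    exact Submodule.mem_span_finite_of_mem_span (F.mem_span_tops hρ ⊤ hxN)
  choose Wf hWf hWmem using hfin
  let T₀ : Finset ((VecGrp.pt k k ⟶ G) → A) := nS.attach.biUnion fun x => Wf x.1 x.2
  have hT₀ : ∀ Φ ∈ T₀, ∃ m v, v ∈ F.fil ρ m ∧ F.psi ρ m v = Φ := fun Φ hΦ => by
    obtain ⟨p, -, hp⟩ := Finset.mem_biUnion.1 hΦ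
    obtain ⟨m, v, -, hv, e⟩ := hWf _ _ hp
    exact ⟨m, v, hv, e⟩
  choose mo vo hvo hΨ using hT₀
  let T := T₀.attach.image fun Φ => (mo Φ.1 Φ.2, vo Φ.1 Φ.2)
  refine ⟨T, fun p hp => ?_, fun m v hv => ?_⟩
  · obtain ⟨Φ, -, rfl⟩ := Finset.mem_image.1 hp
    exact hvo _ _
  set Tar := Submodule.span k
    {Φ | ∃ (n : ℤ) (c : A) (p : ℤ × A), c ∈ C ∧ c ∈ F.fil ρ n ∧ p ∈ T ∧ F.psi ρ n c * F.psi ρ p.1 p.2 = Φ} with hTar
  have hmul : ∀ (s : (VecGrp.pt k k ⟶ G) → A), s ∈ Submodule.span k (F.tops ρ C) →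
      ∀ x ∈ Submodule.span k (T₀ : Set ((VecGrp.pt k k ⟶ G) → A)), s * x ∈ Tar := by
    intro s hs x hx
    have h1 := Submodule.mul_mem_mul hs hx
    rw [Submodule.span_mul_span] at h1
    refine Submodule.span_mono ?_ h1
    rintro _ ⟨_, ⟨n, c, hcC, hc, rfl⟩, Φ, hΦ, rfl⟩
    exact ⟨n, c, _, hcC, hc, Finset.mem_image.2 ⟨⟨Φ, hΦ⟩, Finset.mem_attach _ _, rfl⟩, by rw [hΨ Φ hΦ]⟩
  have hNle : ∀ x ∈ N, (x.1 : (VecGrp.pt k k ⟶ G) → A) ∈ Tar ∧
      ∀ s : S, s.1 * x.1 ∈ Tar := by
    intro x hx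
    rw [← hnS] at hx
    induction hx using Submodule.span_induction with
    | mem x hx =>
      have hsub : x.1 ∈ Submodule.span k (T₀ : Set ((VecGrp.pt k k ⟶ G) → A)) :=
        Submodule.span_mono (fun Φ hΦ => Finset.mem_coe.2 (Finset.mem_biUnion.2
          ⟨⟨x, hx⟩, Finset.mem_attach _ _, hΦ⟩)) (hWmem x hx)
      refine ⟨?_, fun s => hmul _ (F.mem_span_tops hρ C s.2) _ hsub⟩
      have := hmul 1 (F.mem_span_tops hρ C (Subalgebra.one_mem _)) _ hsub
      rwa [_root_.one_mul] at this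
    | zero => exact ⟨zero_mem _, fun s => by
        rw [show ((0 : R).1 : (VecGrp.pt k k ⟶ G) → A) = 0 from rfl, MulZeroClass.mul_zero]; exact zero_mem _⟩
    | add x y _ _ hx hy => exact ⟨add_mem hx.1 hy.1, fun s => by
        rw [show (x + y).1 = x.1 + y.1 from rfl, mul_add]; exact add_mem (hx.2 s) (hy.2 s)⟩
    | smul t x _ hx => exact ⟨hx.2 t, fun s => by
        rw [show (t • x).1 = t.1 * x.1 from rfl, ← _root_.mul_assoc]; exact hx.2 (s * t)⟩
  have hvR : F.psi ρ m v ∈ Algebra.adjoin k (F.tops ρ ⊤) := Algebra.subset_adjoin ⟨m, v, Algebra.mem_top, hv, rfl⟩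
  exact (hNle ⟨_, hall hvR⟩ hvR).1

set_option maxHeartbeats 1600000 in
include hρ in
/-- **The algebra is a finite module over a stable subalgebra containing the invariants.** -/
theorem Frame.exists_finite_over (hFG : (F.fixed hρ).FG) (C : Subalgebra k A)
    (hst : ∀ g : VecGrp.pt k k ⟶ G, ∀ c ∈ C, ptAct ρ g c ∈ C) (hfixC : F.fixed hρ ≤ C) :
    Module.Finite C A := by
  classical
  obtain ⟨T, hT, hgen⟩ := F.exists_tops hρ hFG C hst hfixC
  let cls : Multiplicative (Fin F.d → ℤ) → (F.zc →* k) := fun ω => F.res ω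
  let T' : Finset (ℤ × A) := T.biUnion fun p =>
    ((wc F.iT F.C ρ p.2).support.image cls).image fun z => (p.1, F.part ρ (fun ω => F.res ω = z) p.2)
  refine ⟨⟨T'.image Prod.snd, ?_⟩⟩
  set C₀ : Submodule k A := (Submodule.span C ((T'.image Prod.snd : Finset A) : Set A)).restrictScalars k with hC₀
  -- monomials
  let Pm : ((VecGrp.pt k k ⟶ G) → A) → Prop := fun Φ => ∃ (m : ℤ) (z : F.zc →* k) (w : A),
    w ∈ C₀ ∧ w ∈ F.fil ρ m ∧ F.part ρ (fun ω => F.res ω = z) w = w ∧ F.psi ρ m w = Φ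
  have hsplit : ∀ v : A, v = ∑ z ∈ (wc F.iT F.C ρ v).support.image cls, F.part ρ (fun ω => F.res ω = z) v := fun v =>
    F.ext_wc ρ fun ω => by
      rw [map_sum, Finsupp.finsetSum_apply]
      simp only [F.wc_part, Finset.sum_ite_eq, Finset.mem_image, cls]
      split_ifs with h
      · rfl
      · by_contra hne
        exact h ⟨ω, Finsupp.mem_support_iff.2 hne, rfl⟩
  have hpartmul : ∀ (z z' : F.zc →* k) (x y : A), F.part ρ (fun ω => F.res ω = z) x = x →
      F.part ρ (fun ω => F.res ω = z') y = y → F.part ρ (fun ω => F.res ω = z * z') (x * y) = x * y := by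
    intro z z' x y hx hy
    refine F.part_of_forall ρ fun ω hω => ?_
    rw [F.wc_mul hρ, Finsupp.sum_apply]
    refine Finset.sum_eq_zero fun i hi => ?_
    dsimp only
    rw [Finsupp.sum_apply]
    refine Finset.sum_eq_zero fun j hj => Finsupp.single_eq_of_ne fun e => hω ?_
    have hi' : F.res i = z := by
      by_contra h
      refine Finsupp.mem_support_iff.1 hi ?_
      rw [← hx, F.wc_part, if_neg h]
    have hj' : F.res j = z' := by
      by_contra h
      refine Finsupp.mem_support_iff.1 hj ?_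
      rw [← hy, F.wc_part, if_neg h]
    rw [e, F.res_mul, hi', hj']
  have hpartC : ∀ c ∈ C, ∀ z : F.zc →* k, F.part ρ (fun ω => F.res ω = z) c ∈ C := fun c hc z => by
    rw [F.part_apply]
    exact Subalgebra.sum_mem _ fun ω _ =>
      wc_mem F.iT F.C ρ (W := Subalgebra.toSubmodule C) (fun τ => hst _ c hc) ω
  have hprod : ∀ (n : ℤ) (c : A) (p : ℤ × A), c ∈ C → c ∈ F.fil ρ n → p ∈ T →
      F.psi ρ n c * F.psi ρ p.1 p.2 ∈ Submodule.span k {Φ | Pm Φ} := by
    intro n c p hcC hc hp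
    rw [hsplit c, hsplit p.2, map_sum, map_sum, Finset.sum_mul_sum]
    refine Submodule.sum_mem _ fun z _ => Submodule.sum_mem _ fun z' hz' => Submodule.subset_span ?_
    have hfz := F.part_res_mem_fil ρ hc z
    have hfz' := F.part_res_mem_fil ρ (hT p hp) z'
    refine ⟨n + p.1, z * z', F.part ρ (fun ω => F.res ω = z) c * F.part ρ (fun ω => F.res ω = z') p.2, ?_,
      F.mul_mem_fil hρ hfz hfz', hpartmul z z' _ _ ?_ ?_, F.psi_mul hρ hfz hfz'⟩
    · exact (Submodule.span C _).smul_mem (⟨_, hpartC c hcC z⟩ : C) (Submodule.subset_span (Finset.mem_coe.2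
        (Finset.mem_image.2 ⟨(p.1, _), Finset.mem_biUnion.2 ⟨p, hp, Finset.mem_image.2 ⟨z', hz', rfl⟩⟩, rfl⟩)))
    · exact F.part_of_forall ρ fun ω hω => by rw [F.wc_part, if_neg hω]
    · exact F.part_of_forall ρ fun ω hω => by rw [F.wc_part, if_neg hω]
  have hstep : ∀ (m : ℤ) (z : F.zc →* k) (v : A), v ∈ F.fil ρ m → F.part ρ (fun ω => F.res ω = z) v = v →
      ∃ w ∈ C₀, v - w ∈ F.fil ρ (m - 1) ∧ F.part ρ (fun ω => F.res ω = z) (v - w) = v - w := by
    intro m z v hv hvz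
    -- the projection to degree `m` and class `z`
    let L : ((VecGrp.pt k k ⟶ G) → A) →ₗ[k] ((VecGrp.pt k k ⟶ G) → A) :=
      LinearMap.pi fun y => ((F.part ρ fun ω => F.res ω = z).comp (F.part ρ fun ω => F.deg ω = m)).comp
        (LinearMap.proj y)
    let K : Submodule k A := C₀ ⊓ (F.fil ρ m ⊓
      LinearMap.ker ((F.part ρ fun ω => F.res ω = z) - LinearMap.id))
    have himg : ∀ Φ, Pm Φ → L Φ ∈ K.map (F.psi ρ m) := by
      rintro _ ⟨m', z', w, hw, hwf, hwz, rfl⟩
      have hkey : ∀ y, L (F.psi ρ m' w) y = F.part ρ (fun ω => F.res ω = z)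
          (F.part ρ (fun ω => F.deg ω = m) (F.part ρ (fun ω => F.deg ω = m')
            (F.part ρ (fun ω => F.res ω = z') (ptAct ρ y⁻¹ w)))) := fun y => by
        rw [F.part_res_act, hwz]; rfl
      by_cases hcase : m' = m ∧ z' = z
      · obtain ⟨rfl, rfl⟩ := hcase
        refine ⟨w, ⟨hw, hwf, by
          rw [SetLike.mem_coe, LinearMap.mem_ker, LinearMap.sub_apply, LinearMap.id_apply, hwz, sub_self]⟩,
          funext fun y => (hkey y).symm ▸ ?_⟩
        rw [F.psi_apply]
        refine F.ext_wc ρ fun ω => ?_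
        simp only [F.wc_part]
        have h0 : ¬ F.res ω = z' → wc F.iT F.C ρ (ptAct ρ y⁻¹ w) ω = 0 := fun h => by
          rw [← hwz, ← F.part_res_act, F.wc_part, if_neg h]
        by_cases hm : F.deg ω = m' <;> by_cases hr : F.res ω = z'
        · simp only [if_pos hm, if_pos hr]
        · simp only [if_pos hm, if_neg hr]; exact h0 hr
        · simp only [if_neg hm, if_pos hr]
        · simp only [if_neg hm, if_neg hr]
      · refine ⟨0, zero_mem _, ?_⟩
        rw [map_zero]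
        refine funext fun y => ?_
        rw [hkey, Pi.zero_apply]
        refine (F.ext_wc ρ fun ω => ?_).symm
        rw [map_zero, Finsupp.zero_apply]
        simp only [F.wc_part]
        split_ifs with h1 h2 h3 h4
        · exact absurd ⟨h3.symm.trans h2, h4.symm.trans h1⟩ hcase
        all_goals rfl
    have hv' : L (F.psi ρ m v) = F.psi ρ m v := funext fun y => by
      show F.part ρ (fun ω => F.res ω = z) (F.part ρ (fun ω => F.deg ω = m) (F.psi ρ m v y)) = F.psi ρ m v y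
      rw [F.psi_apply]
      refine F.ext_wc ρ fun ω => ?_
      simp only [F.wc_part]
      split_ifs with h1 h2
      · rfl
      · rfl
      · rw [← hvz, ← F.part_res_act, F.wc_part, if_neg h1]
      · rfl
    have hspan : F.psi ρ m v ∈ K.map (F.psi ρ m) := by
      rw [← hv']
      have h1 : F.psi ρ m v ∈ Submodule.span k {Φ | Pm Φ} :=
        (Submodule.span_le.2 (by rintro _ ⟨n, c, p, hcC, hc, hp, rfl⟩; exact hprod n c p hcC hc hp)) (hgen m v hv)
      refine (Submodule.span_le.2 ?_ : Submodule.span k {Φ | Pm Φ} ≤ (K.map (F.psi ρ m)).comap L) h1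
      exact fun Φ hΦ => himg Φ hΦ
    obtain ⟨w, ⟨hwC, hwf, hwz⟩, hwe⟩ := hspan
    rw [SetLike.mem_coe, LinearMap.mem_ker, LinearMap.sub_apply, LinearMap.id_apply, sub_eq_zero] at hwz
    refine ⟨w, hwC, (F.mem_fil ρ).2 fun g ν hν => ?_, by rw [map_sub, hvz, hwz]⟩
    have hsub : v - w ∈ F.fil ρ m := Submodule.sub_mem _ hv hwf
    rcases (show m ≤ F.deg ν by omega).lt_or_eq with h | h
    · exact (F.mem_fil ρ).1 hsub g ν h
    · have h0 : F.psi ρ m (v - w) = 0 := by rw [map_sub, hwe, sub_self]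
      have h1 := congrArg (fun x => wc F.iT F.C ρ x ν) (congrFun h0 g⁻¹)
      rw [F.psi_apply, inv_inv] at h1
      simp only [F.wc_part, Pi.zero_apply, map_zero, Finsupp.zero_apply, if_pos h.symm] at h1
      exact h1
  refine eq_top_iff.2 fun a _ => ?_
  show a ∈ C₀
  rw [hsplit a]
  refine Submodule.sum_mem _ fun z _ => ?_
  obtain ⟨m₀, hm₀⟩ := F.exists_bound ρ z
  have hind : ∀ N : ℕ, ∀ v, v ∈ F.fil ρ (m₀ + N - 1) → F.part ρ (fun ω => F.res ω = z) v = v → v ∈ C₀ := by
    intro N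
    induction N with
    | zero =>
      intro v hv hvz
      rw [hm₀ _ (by omega) v hv hvz]
      exact zero_mem _
    | succ N ih =>
      intro v hv hvz
      obtain ⟨w, hw, h1, h2⟩ := hstep _ z v hv hvz
      have := ih (v - w) (by convert h1 using 2; omega) h2
      simpa using add_mem this hw
  set v := F.part ρ (fun ω => F.res ω = z) a
  have hvz : F.part ρ (fun ω => F.res ω = z) v = v := F.part_of_forall ρ fun ω hω => by
    rw [F.wc_part, if_neg hω]
  -- some bound
  obtain ⟨W, hWf, hvW, hW⟩ := exists_finite_stableSub ρ {v}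
  haveI := hWf
  let bW := Module.finBasis k W
  obtain ⟨m, hm⟩ : ∃ m : ℕ, ∀ ω ∈ Finset.univ.biUnion fun j => (wc F.iT F.C ρ (bW j : A)).support,
      F.deg ω ≤ m₀ + m - 1 := by
    refine ⟨(Finset.univ.biUnion fun j => (wc F.iT F.C ρ (bW j : A)).support).sup
      fun ω => (F.deg ω - m₀ + 1).toNat, fun ω hω => ?_⟩
    have h1 := Finset.le_sup (f := fun ω => (F.deg ω - m₀ + 1).toNat) hω
    omega
  refine hind m v ((F.mem_fil ρ).2 fun g ν hν => ?_) hvz
  have h1 := congrArg Subtype.val (bW.sum_repr ⟨_, hW g v (hvW v (Finset.mem_singleton_self v))⟩)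
  rw [Submodule.coe_sum] at h1
  dsimp only at h1
  rw [← h1, map_sum, Finsupp.finsetSum_apply]
  refine Finset.sum_eq_zero fun j _ => ?_
  rw [Submodule.coe_smul, map_smul, Finsupp.smul_apply, show wc F.iT F.C ρ (bW j : A) ν = 0 from ?_, smul_zero]
  by_contra hne
  exact absurd (hm ν (Finset.mem_biUnion.2 ⟨j, Finset.mem_univ _, Finsupp.mem_support_iff.2 hne⟩)) (not_le.2 hν)

end Groth.Agent.UMod21
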