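import Groth.Agent.Lib.UMod21.Fil
import Groth.Agent.Lib.UInvFG21.Main
import Mathlib.Order.WellQuasiOrder
import Mathlib.Algebra.MvPolynomial.Eval

/-!
# Functions semi-invariant under the opposite Borel subgroup
-/

set_option autoImplicit false
set_option linter.style.haveILetI false
set_option backward.isDefEq.respectTransparency.types false
universe u

open CategoryTheory Limits MonoidalCategory CartesianMonoidalCategory MonObj AlgebraicGeometry

noncomputable section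

namespace Groth.Agent.UMod21

open InvRing21 DiagGL TorPts21 UInvFG21

attribute [local instance] InvRing21.gamAlg BorelFix21.ptsTop

/-- Dickson's lemma. -/
theorem exists_finset_le {s : ℕ} (P : (Fin s → ℕ) → Prop) :
    ∃ t : Finset (Fin s → ℕ), (∀ y ∈ t, P y) ∧ ∀ x, P x → ∃ y ∈ t, y ≤ x := by
  classical
  have hfin : {x | Minimal P x}.Finite :=
    WellQuasiOrderedLE.finite_of_isAntichain (setOfPred_minimal_antichain P)
  refine ⟨hfin.toFinset, fun y hy => ((Set.Finite.mem_toFinset hfin).1 hy).1, fun x hx => ?_⟩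
  obtain ⟨y, hyx, hy⟩ := exists_minimal_le_of_wellFoundedLT P x hx
  exact ⟨y, (Set.Finite.mem_toFinset hfin).2 hy, hyx⟩

variable {k : Type u} [Field k] [IsAlgClosed k] {G : Over (Spec (CommRingCat.of k))} [GrpObj G] [IsAffine G.left]
  [Smooth G.hom] [ConnectedSpace G.left] (F : Frame G)

/-- `f (y τ p) = χ_ω (τ) f y`. -/
def Frame.IsSemi (ω : Multiplicative (Fin F.d → ℤ)) (f : Γ(G.left, ⊤)) : Prop :=
  ∀ (y : VecGrp.pt k k ⟶ G) (τ : VecGrp.pt k k ⟶ F.T), ∀ p ∈ F.neg.up₁,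
    val (y * ((τ ≫ F.iT) * p)) f = ptChr F.C τ ω * val y f

theorem Frame.isSemi_mul {ω ν : Multiplicative (Fin F.d → ℤ)} {f g : Γ(G.left, ⊤)} (hf : F.IsSemi ω f)
    (hg : F.IsSemi ν g) : F.IsSemi (ω * ν) (f * g) := fun y τ p hp => by
  rw [map_mul, map_mul, hf y τ p hp, hg y τ p hp, map_mul]
  ring

theorem Frame.isSemi_one : F.IsSemi 1 1 := fun y τ p _ => by rw [map_one, map_one, map_one, _root_.mul_one]

theorem Frame.isSemi_pow {ω : Multiplicative (Fin F.d → ℤ)} {f : Γ(G.left, ⊤)} (hf : F.IsSemi ω f) :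
    ∀ m : ℕ, F.IsSemi (ω ^ m) (f ^ m) := fun m => by
  induction m with
  | zero => rw [pow_zero, pow_zero]; exact F.isSemi_one
  | succ m ih => rw [pow_succ, pow_succ]; exact F.isSemi_mul ih hf

theorem Frame.isSemi_prod {s : ℕ} {wg : Fin s → Multiplicative (Fin F.d → ℤ)} {g : Fin s → Γ(G.left, ⊤)}
    (h : ∀ j, F.IsSemi (wg j) (g j)) (e : Fin s → ℕ) : F.IsSemi (∏ j, wg j ^ e j) (∏ j, g j ^ e j) := by
  classical
  induction (Finset.univ : Finset (Fin s)) using Finset.induction_on with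
  | empty => rw [Finset.prod_empty, Finset.prod_empty]; exact F.isSemi_one
  | insert j t hj ih => rw [Finset.prod_insert hj, Finset.prod_insert hj]; exact F.isSemi_mul (F.isSemi_pow (h j) _) ih

/-- Semi-invariants of trivial weight are constant. -/
theorem Frame.exists_const {f : Γ(G.left, ⊤)} (hf : F.IsSemi 1 f) : ∃ c : k, ∀ y, val y f = c := by
  obtain ⟨B, _, iB, hB, hpts⟩ := F.neg.exists_borel
  refine ⟨val 1 f, fun y => const_of_invariant_borel hB f (fun x q => ?_) y 1⟩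
  obtain ⟨τ₀, p, hp, e⟩ := F.neg.exists_torus_mul ((hpts _).1 ⟨q, rfl⟩)
  obtain ⟨τ, hτ⟩ : ∃ τ : VecGrp.pt k k ⟶ F.T, q ≫ iB = (τ ≫ F.iT) * p := ⟨τ₀, e⟩
  rw [hτ, hf x τ p hp, map_one, _root_.one_mul]

/-- A semi-invariant combination of semi-invariants keeps only the terms of its weight. -/
theorem Frame.mem_span_of_isSemi {ω : Multiplicative (Fin F.d → ℤ)} {f : Γ(G.left, ⊤)} (hf : F.IsSemi ω f)
    {I : Type*} (S : Finset I) (w : I → Multiplicative (Fin F.d → ℤ)) (g : I → Γ(G.left, ⊤))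
    (hg : ∀ i ∈ S, F.IsSemi (w i) (g i)) (c : I → k) (e : f = ∑ i ∈ S, c i • g i) :
    f ∈ Submodule.span k (g '' {i | i ∈ S ∧ w i = ω}) := by
  classical
  let Z : Multiplicative (Fin F.d → ℤ) →₀ Γ(G.left, ⊤) :=
    (∑ i ∈ S, Finsupp.single (w i) (c i • g i)) - Finsupp.single ω f
  have hZ : Z = 0 := eq_zero_of_sum_chr F.C Z fun τ => by
    rw [Finsupp.sum_sub_index (fun _ _ _ => smul_sub _ _ _),
      ← Finsupp.sum_finsetSum_index (fun _ => smul_zero _) (fun _ _ _ => smul_add _ _ _),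
      Finsupp.sum_single_index (h := fun ν x => ptChr F.C τ ν • x) (smul_zero _), sub_eq_zero]
    refine ext_val fun x => ?_
    have h1 : ∀ i ∈ S, ((Finsupp.single (w i) (c i • g i)).sum fun ν x => ptChr F.C τ ν • x) =
        ptChr F.C τ (w i) • (c i • g i) := fun i _ => Finsupp.sum_single_index (smul_zero _)
    rw [Finset.sum_congr rfl h1, map_sum, map_smul, smul_eq_mul]
    have h2 := hf x τ 1 (one_mem _)
    rw [e] at h2
    rw [e, ← h2, map_sum]
    refine Finset.sum_congr rfl fun i hi => ?_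
    rw [map_smul, map_smul, map_smul, hg i hi x τ 1 (one_mem _), smul_eq_mul, smul_eq_mul, smul_eq_mul]
    ring
  have h := DFunLike.congr_fun hZ ω
  rw [Finsupp.sub_apply, Finsupp.single_eq_same, Finsupp.finsetSum_apply, Finsupp.zero_apply, sub_eq_zero] at h
  rw [← h]
  refine Submodule.sum_mem _ fun i hi => ?_
  rw [Finsupp.single_apply]
  split_ifs with hw
  · exact Submodule.smul_mem _ _ (Submodule.subset_span ⟨i, ⟨hi, hw⟩, rfl⟩)
  · exact zero_mem _

/-- The weight of a semi-invariant of the opposite Borel subgroup. -/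
theorem Frame.exists_weight {B : Over (Spec (CommRingCat.of k))} [GrpObj B] {iB : B ⟶ G} [IsMonHom iB]
    (hpts : ∀ x, (∃ y, y ≫ iB = x) ↔ x ∈ F.neg.up) {ξ : (VecGrp.pt k k ⟶ B) → k} {f : Γ(G.left, ⊤)}
    (hne : f ≠ 0) (hξ : Semi iB ξ f) (hU : ∀ y, ∀ p ∈ F.neg.up₁, val (y * p) f = val y f) :
    ∃ ω, F.IsSemi ω f := by
  classical
  obtain ⟨x₀, hx₀⟩ := exists_val_ne_zero hne
  have hlift : ∀ τ : VecGrp.pt k k ⟶ F.T, ∃ q, q ≫ iB = τ ≫ F.iT := fun τ => (hpts _).2 (F.neg.torus_mem τ)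
  choose q hq using hlift
  obtain ⟨a, ha⟩ := exists_val_eq F.C (F.iT.left.appTop ((lTr x₀).left.appTop f))
  have hval : ∀ τ : VecGrp.pt k k ⟶ F.T,
      ξ (q τ) * val x₀ f = MonoidAlgebra.lift k k _ (ptChr F.C τ) a := fun τ => by
    rw [← hξ x₀ (q τ), hq, ← ha, appTop_val, val_lTr]
  have hmul : ∀ σ τ, ξ (q (σ * τ)) = ξ (q σ) * ξ (q τ) := fun σ τ => by
    have h1 := hξ x₀ (q (σ * τ))
    rw [hq, MonObj.mul_comp, ← _root_.mul_assoc, ← hq σ, ← hq τ, hξ, hξ] at h1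
    exact mul_right_cancel₀ hx₀ (by rw [← h1]; ring)
  have hone : ξ (q 1) = 1 := by
    have h1 := hξ x₀ (q 1)
    rw [hq, MonObj.one_comp, _root_.mul_one] at h1
    exact (mul_eq_right₀ hx₀).1 h1.symm
  have ha0 : a.coeff ≠ 0 := fun h0 => hx₀ (by
    have := hval 1
    rw [hone, _root_.one_mul, MonoidAlgebra.lift_apply, h0] at this
    simpa using this)
  obtain ⟨ω, hω⟩ := Finsupp.support_nonempty_iff.2 ha0
  have hchr : ∀ τ, ξ (q τ) = ptChr F.C τ ω := fun τ => by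
    let Z : Multiplicative (Fin F.d → ℤ) →₀ k :=
      a.coeff.sum fun ν s => Finsupp.single ν (s * (ptChr F.C τ ν - ξ (q τ)))
    have hZ : Z = 0 := eq_zero_of_sum_chr F.C Z fun σ => by
      rw [Finsupp.sum_sum_index (fun _ => smul_zero _) (fun _ _ _ => smul_add _ _ _)]
      have h1 := hval (σ * τ)
      have h2 := hval σ
      rw [hmul, MonoidAlgebra.lift_apply, Finsupp.sum] at h1
      rw [MonoidAlgebra.lift_apply, Finsupp.sum] at h2
      rw [Finsupp.sum]
      refine Eq.trans (Finset.sum_congr rfl fun ν _ => Finsupp.sum_single_index (smul_zero _)) ?_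
      have h3 : ∀ ν, ptChr F.C σ ν • (a.coeff ν * (ptChr F.C τ ν - ξ (q τ))) =
          a.coeff ν • ptChr F.C (σ * τ) ν - ξ (q τ) * (a.coeff ν • ptChr F.C σ ν) := fun ν => by
        rw [ptChr_mul, smul_eq_mul, smul_eq_mul, smul_eq_mul]; ring
      rw [Finset.sum_congr rfl fun ν _ => h3 ν, Finset.sum_sub_distrib, ← h1, ← Finset.mul_sum, ← h2]
      ring
    have h4 := DFunLike.congr_fun hZ ω
    rw [Finsupp.sum_apply, Finsupp.sum, Finset.sum_eq_single ω (fun ν _ hν => Finsupp.single_eq_of_ne (Ne.symm hν))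
      (fun h => absurd hω h), Finsupp.single_eq_same, Finsupp.zero_apply] at h4
    exact (sub_eq_zero.1 ((mul_eq_zero.1 h4).resolve_left (Finsupp.mem_support_iff.1 hω))).symm
  refine ⟨ω, fun y τ p hp => ?_⟩
  rw [← _root_.mul_assoc, hU (y * (τ ≫ F.iT)) p hp, ← hq, hξ, hchr]

/-- Homogeneous generators of the functions invariant under the opposite unipotent subgroup. -/
theorem Frame.exists_semi_gens :
    ∃ (s : ℕ) (wg : Fin s → Multiplicative (Fin F.d → ℤ)) (g : Fin s → Γ(G.left, ⊤)),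
      (∀ j, F.IsSemi (wg j) (g j)) ∧ ∀ f : Γ(G.left, ⊤), (∀ y, ∀ p ∈ F.neg.up₁, val (y * p) f = val y f) →
        f ∈ Algebra.adjoin k (Set.range g) := by
  classical
  obtain ⟨B, _, iB, hB, hpts⟩ := F.neg.exists_borel
  obtain ⟨hBm, hBc, hBs, hBn, hBsol, -⟩ := id hB
  haveI := hBm
  haveI := hBc
  haveI := hBs
  haveI := hBn
  haveI : IsAffine B.left := isAffine_of_isAffineHom iB.left
  obtain ⟨U, _, u, hU, -⟩ := exists_unipotentRadical B hBsol
  haveI := ((isUnipotentRadical_iff u).1 hU).1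
  have hrad := F.neg.range_radical hB hU hpts
  have hinv : ∀ f : Γ(G.left, ⊤), (∀ y, ∀ p ∈ F.neg.up₁, val (y * p) f = val y f) ↔ f ∈ invSub (u ≫ iB) := fun f => by
    rw [mem_invSub]
    exact ⟨fun h x q => h x _ ((hrad _).1 ⟨q, rfl⟩), fun h y p hp => by
      obtain ⟨q, rfl⟩ := (hrad p).2 hp
      exact h y q⟩
  obtain ⟨t, ht⟩ := fg_invSub hB hU
  have hspan : ∀ f ∈ t, ∃ T : Finset Γ(G.left, ⊤), (∀ g ∈ T, ∃ ω, F.IsSemi ω g) ∧ f ∈ Submodule.span k (T : Set _) := by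
    intro f hf
    have hfU : f ∈ invSub (u ≫ iB) := ht ▸ Algebra.subset_adjoin hf
    obtain ⟨T, hTs, hT⟩ := Submodule.mem_span_finite_of_mem_span (mem_span_semi hBsol hU hfU)
    refine ⟨T, fun g hg => ?_, hT⟩
    obtain ⟨hgU, ξ, hξ⟩ := hTs hg
    by_cases hg0 : g = 0
    · exact ⟨1, fun y τ p _ => by rw [hg0, map_zero, map_zero, MulZeroClass.mul_zero]⟩
    · exact F.exists_weight hpts hg0 hξ ((hinv g).2 hgU)
  choose T hTsemi hT using hspan
  let S : Finset Γ(G.left, ⊤) := t.attach.biUnion fun f => T f.1 f.2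
  have hS : ∀ g ∈ S, ∃ ω, F.IsSemi ω g := fun g hg => by
    obtain ⟨f, -, hf⟩ := Finset.mem_biUnion.1 hg
    exact hTsemi _ _ g hf
  choose wg hwg using hS
  let e := S.equivFin.symm
  refine ⟨S.card, fun j => wg _ (e j).2, fun j => (e j).1, fun j => hwg _ (e j).2, fun f hf => ?_⟩
  have hf' := (hinv f).1 hf
  rw [← ht] at hf'
  refine (Algebra.adjoin_le fun f₀ hf₀ => ?_ : Algebra.adjoin k (t : Set Γ(G.left, ⊤)) ≤ _) hf'
  refine (Submodule.span_le.2 fun g hg => ?_ : Submodule.span k (T f₀ hf₀ : Set Γ(G.left, ⊤)) ≤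
    Subalgebra.toSubmodule (Algebra.adjoin k _)) (hT f₀ hf₀)
  exact Algebra.subset_adjoin ⟨e.symm ⟨g, Finset.mem_biUnion.2 ⟨⟨f₀, hf₀⟩, Finset.mem_attach _ _, hg⟩⟩, by simp⟩

/-- The semi-invariant monomials of given weight span. -/
theorem Frame.mem_span_monomials {s : ℕ} {wg : Fin s → Multiplicative (Fin F.d → ℤ)} {g : Fin s → Γ(G.left, ⊤)}
    (h : ∀ j, F.IsSemi (wg j) (g j)) {ω : Multiplicative (Fin F.d → ℤ)} {f : Γ(G.left, ⊤)} (hf : F.IsSemi ω f)
    (hmem : f ∈ Algebra.adjoin k (Set.range g)) :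
    f ∈ Submodule.span k ((fun e : Fin s → ℕ => ∏ j, g j ^ e j) '' {e | ∏ j, wg j ^ e j = ω}) := by
  classical
  rw [Algebra.adjoin_range_eq_range_aeval, AlgHom.mem_range] at hmem
  obtain ⟨p, rfl⟩ := hmem
  have hsum : MvPolynomial.aeval g p = ∑ e ∈ p.support, MvPolynomial.coeff e p • ∏ j, g j ^ e j := by
    rw [MvPolynomial.aeval_def, MvPolynomial.eval₂_eq']
    exact Finset.sum_congr rfl fun e _ => (Algebra.smul_def _ _).symm
  refine Submodule.span_mono ?_ (F.mem_span_of_isSemi hf p.support (fun e => ∏ j, wg j ^ e j)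
    (fun e => ∏ j, g j ^ e j) (fun e _ => F.isSemi_prod h _) _ hsum)
  rintro _ ⟨e, ⟨-, he⟩, rfl⟩
  exact ⟨fun j => e j, he, rfl⟩

/-- **The functions of a given weight form a finite dimensional space.** -/
theorem Frame.exists_finite_semi (ω : Multiplicative (Fin F.d → ℤ)) :
    ∃ t : Finset Γ(G.left, ⊤), ∀ f, F.IsSemi ω f → f ∈ Submodule.span k (t : Set Γ(G.left, ⊤)) := by
  classical
  obtain ⟨s, wg, g, hg, hgen⟩ := F.exists_semi_gens
  obtain ⟨m, hm, hle⟩ := exists_finset_le fun e : Fin s → ℕ => ∏ j, wg j ^ e j = ω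
  refine ⟨m.image fun e => ∏ j, g j ^ e j, fun f hf => ?_⟩
  have hf' := hgen f fun y p hp => by
    simpa [MonObj.one_comp, ptChr_one] using hf y 1 p hp
  refine (Submodule.span_le.2 ?_ : Submodule.span k ((fun e : Fin s → ℕ => ∏ j, g j ^ e j) ''
    {e | ∏ j, wg j ^ e j = ω}) ≤ _) (F.mem_span_monomials hg hf hf')
  rintro _ ⟨e, he, rfl⟩
  obtain ⟨e₀, he₀, hle₀⟩ := hle e he
  have hsplit : ∀ {X : Type u} [CommMonoid X] (z : Fin s → X),
      ∏ j, z j ^ e j = (∏ j, z j ^ e₀ j) * ∏ j, z j ^ (e j - e₀ j) := fun z => by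
    rw [← Finset.prod_mul_distrib]
    exact Finset.prod_congr rfl fun j _ => by rw [← pow_add, Nat.add_sub_cancel' (hle₀ j)]
  have hw : ∏ j, wg j ^ (e j - e₀ j) = 1 := by
    have h1 : ∏ j, wg j ^ e j = (∏ j, wg j ^ e₀ j) * ∏ j, wg j ^ (e j - e₀ j) := by
      rw [← Finset.prod_mul_distrib]
      exact Finset.prod_congr rfl fun j _ => by rw [← pow_add, Nat.add_sub_cancel' (hle₀ j)]
    rw [he, hm e₀ he₀] at h1
    exact left_eq_mul.1 h1
  obtain ⟨c, hc⟩ := F.exists_const (hw ▸ F.isSemi_prod hg fun j => e j - e₀ j)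
  show (∏ j, g j ^ e j) ∈ Submodule.span k _
  rw [hsplit g, show ∏ j, g j ^ (e j - e₀ j) = algebraMap k _ c from ext_val fun y => by
    rw [hc y, AlgHom.commutes]; rfl, _root_.mul_comm, ← Algebra.smul_def]
  exact Submodule.smul_mem _ _ (Submodule.subset_span (Finset.mem_image_of_mem _ he₀))

end Groth.Agent.UMod21
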