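import Groth.Agent.Lib.UMod21.Frame
import Mathlib.LinearAlgebra.Dual.Lemmas

/-!
# Weight components for a split torus
-/

set_option autoImplicit false
set_option linter.style.haveILetI false
set_option backward.isDefEq.respectTransparency.types false
universe u

open CategoryTheory Limits MonoidalCategory CartesianMonoidalCategory MonObj AlgebraicGeometry
open scoped TensorProduct

noncomputable section

namespace Groth.Agent.UMod21

open InvRing21 DiagGL TorPts21 UInvFG21

attribute [local instance] InvRing21.gamAlg BorelFix21.ptsTop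

variable {k : Type u} [Field k] [IsAlgClosed k] {d : ℕ} {G T : Over (Spec (CommRingCat.of k))} [GrpObj G]
  [GrpObj T] [IsAffine G.left]

omit [GrpObj G] [IsAffine G.left] in
/-- A function on the torus is a combination of characters. -/
theorem exists_val_eq (C : Chars (Fin d → ℤ) T) (f : Γ(T.left, ⊤)) :
    ∃ a : MonoidAlgebra k (Multiplicative (Fin d → ℤ)), ∀ τ : VecGrp.pt k k ⟶ T,
      val τ f = MonoidAlgebra.lift k k _ (ptChr C τ) a := by
  obtain ⟨w, hw⟩ := DiagGL.exists_uni C
  refine ⟨(DiagGL.emb k (Fin d → ℤ)).symm (w.left.appTop f), fun τ => ?_⟩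
  obtain ⟨t, rfl, ht⟩ := DiagGL.exists_factor C hw τ
  rw [← appTop_val]
  generalize hz : w.left.appTop f = z
  obtain ⟨a, rfl⟩ := (DiagGL.emb k (Fin d → ℤ)).surjective z
  rw [RingEquiv.symm_apply_apply]
  clear hz
  show InvRing21.ptHom k (t.left.appTop (DiagGL.emb k (Fin d → ℤ) a)) = _
  induction a using MonoidAlgebra.induction_linear with
  | zero => simp
  | add a b ha hb => simp only [map_add, ha, hb]
  | single m c =>
    have e1 : DiagGL.emb k (Fin d → ℤ) (MonoidAlgebra.single m c) =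
        DiagGL.alg (DiagGL.D k (Fin d → ℤ)) c * DiagGL.univChar k (Fin d → ℤ) m := by
      rw [DiagGL.alg_D]
      show _ = DiagGL.emb k (Fin d → ℤ) (MonoidAlgebra.single 1 c) *
        DiagGL.emb k (Fin d → ℤ) (MonoidAlgebra.of k (Multiplicative (Fin d → ℤ)) m)
      rw [← map_mul, MonoidAlgebra.of_apply, MonoidAlgebra.single_mul_single, _root_.one_mul, _root_.mul_one]
    rw [e1, map_mul, map_mul, DiagGL.alg_comp, ← ht, MonoidAlgebra.lift_single, smul_eq_mul]
    congr 1
    exact (InvRing21.ptHom k).commutes c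

omit [IsAlgClosed k] [GrpObj G] [IsAffine G.left] in
theorem ptChr_one (C : Chars (Fin d → ℤ) T) (ω : Multiplicative (Fin d → ℤ)) : ptChr C 1 ω = 1 := by
  show InvRing21.ptHom k (C.ch 1 ω) = 1
  rw [C.one, map_one]

omit [GrpObj G] [IsAffine G.left] in
/-- A combination of characters with vector coefficients vanishes only trivially. -/
theorem eq_zero_of_sum_chr (C : Chars (Fin d → ℤ) T) {V : Type*} [AddCommGroup V] [Module k V]
    (c : Multiplicative (Fin d → ℤ) →₀ V)
    (h : ∀ τ : VecGrp.pt k k ⟶ T, (c.sum fun ω x => ptChr C τ ω • x) = 0) : c = 0 := by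
  let φ : Multiplicative (Fin d → ℤ) → ((VecGrp.pt k k ⟶ T) →* k) := fun ω =>
    { toFun := fun τ => ptChr C τ ω, map_one' := ptChr_one C ω, map_mul' := fun x y => ptChr_mul C x y ω }
  have hφ : Function.Injective φ := fun ω ν e =>
    Multiplicative.toAdd.injective (eq_of_forall_ptChr C (a := ω.toAdd) (a' := ν.toAdd) fun τ => DFunLike.congr_fun e τ)
  have hli : LinearIndependent k fun ω => (φ ω : (VecGrp.pt k k ⟶ T) → k) :=
    (linearIndependent_monoidHom _ k).comp φ hφ
  ext ω
  refine (Module.forall_dual_apply_eq_zero_iff k _).1 fun ξ => ?_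
  have key := linearIndependent_iff.1 hli (c.mapRange ξ (map_zero ξ)) (funext fun τ => by
    rw [Finsupp.linearCombination_apply, Finsupp.sum_mapRange_index (fun i => zero_smul k (φ i : (VecGrp.pt k k ⟶ T) → k)), Finsupp.sum,
      Finset.sum_apply, Pi.zero_apply]
    have h1 := congrArg ξ (h τ)
    rw [map_zero, Finsupp.sum, map_sum] at h1
    refine Eq.trans (Finset.sum_congr rfl fun ν _ => ?_) h1
    rw [map_smul, smul_eq_mul, Pi.smul_apply, smul_eq_mul, _root_.mul_comm]
    rfl)
  simpa using DFunLike.congr_fun key ω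

variable (iT : T ⟶ G) [IsMonHom iT] (C : Chars (Fin d → ℤ) T) {M : Type u} [AddCommGroup M] [Module k M]
  (ρ : VecGrp.GMod G M)

/-- Every vector splits into weight vectors. -/
theorem exists_wc (v : M) : ∃ c : Multiplicative (Fin d → ℤ) →₀ M,
    ∀ τ : VecGrp.pt k k ⟶ T, ptAct ρ (τ ≫ iT) v = c.sum fun ω x => ptChr C τ ω • x := by
  classical
  obtain ⟨W, hWf, hvW, hW⟩ := exists_finite_stableSub ρ {v}
  haveI := hWf
  let e := Module.finBasis k W
  choose ξ hξ using fun j => LinearMap.exists_extend (e.coord j)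
  choose a ha using fun j => exists_val_eq C (iT.left.appTop (coef ρ (ξ j) v))
  refine ⟨∑ j, (a j).coeff.mapRange (fun s : k => s • (e j : M)) (zero_smul _ _), fun τ => ?_⟩
  rw [← Finsupp.sum_finsetSum_index (fun _ => smul_zero _) (fun _ _ _ => smul_add _ _ _)]
  have hmem : ptAct ρ (τ ≫ iT) v ∈ W := hW _ v (hvW v (Finset.mem_singleton_self v))
  have hrepr := congrArg Subtype.val (e.sum_repr ⟨_, hmem⟩)
  rw [Submodule.coe_sum] at hrepr
  refine hrepr.symm.trans (Finset.sum_congr rfl fun j _ => ?_)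
  rw [Submodule.coe_smul, Finsupp.sum_mapRange_index (fun _ => smul_zero _)]
  have hc : e.repr ⟨_, hmem⟩ j = MonoidAlgebra.lift k k _ (ptChr C τ) (a j) := by
    rw [← ha, appTop_val, val_coef]
    exact (DFunLike.congr_fun (hξ j) ⟨_, hmem⟩).symm
  rw [hc, MonoidAlgebra.lift_apply, Finsupp.sum, Finset.sum_smul]
  refine Finset.sum_congr rfl fun ω _ => ?_
  dsimp only
  rw [smul_smul, smul_eq_mul, _root_.mul_comm]

/-- The weight components. -/
def wc : M →ₗ[k] (Multiplicative (Fin d → ℤ) →₀ M) where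
  toFun v := (exists_wc iT C ρ v).choose
  map_add' v w := by
    refine sub_eq_zero.1 (eq_zero_of_sum_chr C _ fun τ => ?_)
    rw [Finsupp.sum_sub_index (fun _ _ _ => smul_sub _ _ _),
      Finsupp.sum_add_index' (fun _ => smul_zero _) (fun _ _ _ => smul_add _ _ _),
      ← (exists_wc iT C ρ v).choose_spec τ, ← (exists_wc iT C ρ w).choose_spec τ,
      ← (exists_wc iT C ρ (v + w)).choose_spec τ, ← actLin_apply, map_add, actLin_apply, actLin_apply, sub_self]
  map_smul' s v := by
    refine sub_eq_zero.1 (eq_zero_of_sum_chr C _ fun τ => ?_)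
    rw [Finsupp.sum_sub_index (fun _ _ _ => smul_sub _ _ _), Finsupp.sum_smul_index' (fun _ => smul_zero _),
      ← (exists_wc iT C ρ (s • v)).choose_spec τ, RingHom.id_apply, sub_eq_zero]
    simp only [smul_comm _ s]
    rw [← Finsupp.smul_sum, ← (exists_wc iT C ρ v).choose_spec τ, ← actLin_apply, map_smul, actLin_apply]

theorem act_eq_sum (v : M) (τ : VecGrp.pt k k ⟶ T) :
    ptAct ρ (τ ≫ iT) v = (wc iT C ρ v).sum fun ω x => ptChr C τ ω • x :=
  (exists_wc iT C ρ v).choose_spec τ

theorem wc_unique {v : M} {c : Multiplicative (Fin d → ℤ) →₀ M}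
    (h : ∀ τ : VecGrp.pt k k ⟶ T, ptAct ρ (τ ≫ iT) v = c.sum fun ω x => ptChr C τ ω • x) : wc iT C ρ v = c := by
  refine sub_eq_zero.1 (eq_zero_of_sum_chr C _ fun τ => ?_)
  rw [Finsupp.sum_sub_index (fun _ _ _ => smul_sub _ _ _), ← act_eq_sum, ← h, sub_self]

theorem sum_wc (v : M) : ((wc iT C ρ v).sum fun _ x => x) = v := by
  have h := act_eq_sum iT C ρ v 1
  rw [MonObj.one_comp, ptAct_one] at h
  refine Eq.trans (Finsupp.sum_congr fun ω _ => ?_) h.symm
  rw [ptChr_one, one_smul]

/-- The components are weight vectors. -/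
theorem act_wc (v : M) (ω : Multiplicative (Fin d → ℤ)) (τ : VecGrp.pt k k ⟶ T) :
    ptAct ρ (τ ≫ iT) (wc iT C ρ v ω) = ptChr C τ ω • wc iT C ρ v ω := by
  classical
  let c := wc iT C ρ v
  let D : Multiplicative (Fin d → ℤ) →₀ M :=
    Finsupp.onFinset c.support (fun ν => ptAct ρ (τ ≫ iT) (c ν) - ptChr C τ ν • c ν) fun ν hν => by
      rw [Finsupp.mem_support_iff]
      intro h0
      rw [h0, smul_zero, sub_zero, ← actLin_apply, map_zero] at hν
      exact hν rfl
  have hD : D = 0 := by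
    refine eq_zero_of_sum_chr C D fun σ => ?_
    rw [Finsupp.onFinset_sum _ (fun ν => smul_zero _)]
    simp only [smul_sub, Finset.sum_sub_distrib]
    refine sub_eq_zero.2 ?_
    have h1 := act_eq_sum iT C ρ v σ
    have h2 := act_eq_sum iT C ρ v (τ * σ)
    rw [MonObj.mul_comp, ptAct_mul, h1, Finsupp.sum, ← actLin_apply, map_sum] at h2
    simp only [map_smul, actLin_apply] at h2
    refine h2.trans (Finset.sum_congr rfl fun ν _ => ?_)
    dsimp only [c]
    rw [ptChr_mul, smul_smul, _root_.mul_comm]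
  have := DFunLike.congr_fun hD ω
  exact sub_eq_zero.1 this

/-- A weight vector has one component. -/
theorem wc_of_wt {v : M} {ω : Multiplicative (Fin d → ℤ)}
    (h : ∀ τ : VecGrp.pt k k ⟶ T, ptAct ρ (τ ≫ iT) v = ptChr C τ ω • v) : wc iT C ρ v = Finsupp.single ω v :=
  wc_unique iT C ρ fun τ => by
    rw [Finsupp.sum_single_index (h := fun ν x => ptChr C τ ν • x) (smul_zero _), h]

theorem wc_wc (v : M) (ω : Multiplicative (Fin d → ℤ)) :
    wc iT C ρ (wc iT C ρ v ω) = Finsupp.single ω (wc iT C ρ v ω) :=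
  wc_of_wt iT C ρ (act_wc iT C ρ v ω)

theorem wc_torus (v : M) (ω : Multiplicative (Fin d → ℤ)) (τ : VecGrp.pt k k ⟶ T) :
    wc iT C ρ (ptAct ρ (τ ≫ iT) v) ω = ptChr C τ ω • wc iT C ρ v ω := by
  classical
  let c := wc iT C ρ v
  have : wc iT C ρ (ptAct ρ (τ ≫ iT) v) =
      Finsupp.onFinset c.support (fun ν => ptChr C τ ν • c ν) fun ν hν => by
        rw [Finsupp.mem_support_iff]
        intro h0
        rw [h0, smul_zero] at hν
        exact hν rfl := by
    refine wc_unique iT C ρ fun σ => ?_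
    rw [← ptAct_mul, ← MonObj.mul_comp, act_eq_sum iT C ρ v, Finsupp.onFinset_sum _ (fun ν => smul_zero _)]
    exact Finset.sum_congr rfl fun ν _ => by dsimp only [c]; rw [ptChr_mul, smul_smul]
  rw [this]
  rfl

/-- A subspace stable under the torus contains the components of its vectors. -/
theorem wc_mem {W : Submodule k M} {v : M} (h : ∀ τ : VecGrp.pt k k ⟶ T, ptAct ρ (τ ≫ iT) v ∈ W)
    (ω : Multiplicative (Fin d → ℤ)) : wc iT C ρ v ω ∈ W := by
  refine (Subspace.forall_mem_dualAnnihilator_apply_eq_zero_iff W _).1 fun ξ hξ => ?_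
  have h0 : (wc iT C ρ v).mapRange ξ (map_zero ξ) = 0 := by
    refine eq_zero_of_sum_chr C _ fun τ => ?_
    have h1 := (Submodule.mem_dualAnnihilator ξ).1 hξ _ (h τ)
    rw [act_eq_sum iT C ρ v τ, Finsupp.sum, map_sum] at h1
    rw [Finsupp.sum_mapRange_index (fun _ => smul_zero _)]
    refine Eq.trans (Finset.sum_congr rfl fun ν _ => ?_) h1
    rw [map_smul]
  simpa using DFunLike.congr_fun h0 ω

variable {A : Type u} [CommRing A] [Algebra k A] {σ : VecGrp.GMod G A} (hσ : σ.IsMult)

include hσ in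
/-- The product of weight vectors. -/
theorem wc_mul_of_wt {x y : A} {ω ν : Multiplicative (Fin d → ℤ)}
    (hx : ∀ τ : VecGrp.pt k k ⟶ T, ptAct σ (τ ≫ iT) x = ptChr C τ ω • x)
    (hy : ∀ τ : VecGrp.pt k k ⟶ T, ptAct σ (τ ≫ iT) y = ptChr C τ ν • y) (τ : VecGrp.pt k k ⟶ T) :
    ptAct σ (τ ≫ iT) (x * y) = ptChr C τ (ω * ν) • (x * y) := by
  rw [← ptAlg_apply hσ, map_mul, ptAlg_apply, ptAlg_apply, hx, hy, map_mul, smul_mul_smul_comm]

end Groth.Agent.UMod21
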