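import Groth.Agent.Lib.UMod21.Fixed
import Mathlib.RingTheory.Ideal.MinimalPrime.Noetherian
import Mathlib.RingTheory.Polynomial.Basic
import Mathlib.RingTheory.FiniteType

/-!
# A connected group fixes the minimal primes; zero divisors and invariants
-/

set_option autoImplicit false
set_option linter.style.haveILetI false
set_option backward.isDefEq.respectTransparency.types false
universe u

open CategoryTheory Limits MonoidalCategory CartesianMonoidalCategory MonObj AlgebraicGeometry
open scoped TensorProduct Pointwise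

noncomputable section

namespace Groth.Agent.UMod21

open InvRing21 TorPts21 UInvFG21

attribute [local instance] InvRing21.gamAlg BorelFix21.ptsTop

variable {k : Type u} [Field k] [IsAlgClosed k] {G U : Over (Spec (CommRingCat.of k))} [GrpObj G] [GrpObj U]
  [IsAffine G.left] [IsAffine U.left] [Smooth U.hom] [ConnectedSpace U.left] (i : U ⟶ G) [IsMonHom i]
  {A : Type u} [CommRing A] [Algebra k A] {ρ : VecGrp.GMod G A} (hρ : ρ.IsMult)

include hρ in
/-- A nilpotent element yields an invariant one. -/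
theorem exists_fixed_nilpotent (hU : Red.HasNoSubtorus k U) (h : ¬ IsReduced A) :
    ∃ v ∈ ρ.fixedUnder i, v ≠ 0 ∧ IsNilpotent v := by
  have hne : (nilradical A).restrictScalars k ≠ ⊥ := fun e => h ⟨fun x hx => by
    have : x ∈ (nilradical A).restrictScalars k := hx
    rwa [e, Submodule.mem_bot] at this⟩
  obtain ⟨v, hv, hv0, hvf⟩ := exists_fixed_of_stable ρ hU i (W := (nilradical A).restrictScalars k)
    (fun g w hw => show IsNilpotent (ptAct ρ (g ≫ i) w) by
      rw [← ptAlg_apply hρ]
      exact (show IsNilpotent w from hw).map (ptAlg hρ (g ≫ i))) hne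
  exact ⟨v, hvf, hv0, hv⟩

variable [ConnectedSpace G.left] [Smooth G.hom]

include hρ in
omit [IsAffine U.left] in
/-- Translates of two elements with product zero have product zero. -/
theorem ptAct_mul_eq_zero [IsReduced A] {a b : A} (hab : a * b = 0) (g g' : VecGrp.pt k k ⟶ G) :
    ptAct ρ g a * ptAct ρ g' b = 0 := by
  classical
  obtain ⟨W, hWf, hsW, hW⟩ := exists_finite_stableSub ρ {a, b}
  let R : Subalgebra k A := Algebra.adjoin k (W : Set A)
  have hR : ∀ (g : VecGrp.pt k k ⟶ G), ∀ x ∈ R, ptAct ρ g x ∈ R := fun g => by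
    have : R ≤ R.comap (ptAlg hρ g) := Algebra.adjoin_le fun w hw =>
      show ptAlg hρ g w ∈ R from Algebra.subset_adjoin (hW g w hw)
    exact fun x hx => this hx
  haveI : Algebra.FiniteType k R := by
    obtain ⟨t, ht⟩ := hWf
    exact (Subalgebra.fg_iff_finiteType _).1 ⟨(t.image W.subtype), by
      rw [Finset.coe_image, ← Algebra.adjoin_span, Submodule.span_image, ht, Submodule.map_subtype_top]⟩
  haveI : IsNoetherianRing R := Algebra.FiniteType.isNoetherianRing k R
  haveI : IsReduced R := isReduced_of_injective R.val Subtype.val_injective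
  let f : (VecGrp.pt k k ⟶ G) → R →ₐ[k] R := fun g =>
    ((ptAlg hρ g).comp R.val).codRestrict R fun x => hR g x.1 x.2
  have hf : ∀ g x, (f g x).1 = ptAct ρ g x.1 := fun g x => rfl
  have hff : ∀ g x, f g⁻¹ (f g x) = x := fun g x => Subtype.ext (by
    rw [hf, hf, ← ptAct_mul, inv_mul_cancel, ptAct_one])
  have hmin : ∀ g, ∀ P ∈ minimalPrimes R, Ideal.comap (f g) P ∈ minimalPrimes R := fun g P hP => by
    haveI := hP.1.1
    refine ⟨⟨inferInstance, bot_le⟩, fun Q hQ hle => ?_⟩
    haveI := hQ.1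
    have hle' : Ideal.comap (f g⁻¹) Q ≤ P := fun x hx => by
      have h1 := hle hx
      rw [Ideal.mem_comap] at h1
      have e := hff g⁻¹ x
      rw [inv_inv] at e
      rwa [e] at h1
    intro x hx
    have h1 := hP.2 ⟨inferInstance, bot_le⟩ hle' (Ideal.mem_comap.1 hx)
    rwa [Ideal.mem_comap, hff] at h1
  have hstab : ∀ P ∈ minimalPrimes R, ∀ g, ∀ x ∈ P, f g x ∈ P := by
    intro P hP
    haveI := BorelFix21.preconnectedSpace_pts (G := G)
    let S : {Q // Q ∈ minimalPrimes R} → Set (VecGrp.pt k k ⟶ G) := fun Q => {g | Q.1 ≤ Ideal.comap (f g) P}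
    have hS : ∀ g Q, g ∈ S Q ↔ Q.1 = Ideal.comap (f g) P := fun g Q => by
      refine ⟨fun h => le_antisymm h ?_, fun h => h.le⟩
      exact (hmin g P hP).2 ⟨Q.2.1.1, bot_le⟩ h
    have hcl : ∀ Q, IsClosed (S Q) := fun Q => by
      let P' : Submodule k A := (P.restrictScalars k).map R.val.toLinearMap
      have : S Q = ⋂ x ∈ Q.1, ⋂ ξ ∈ P'.dualAnnihilator, {g | val g (coef ρ ξ x.1) = 0} := by
        ext g
        simp only [Set.mem_iInter, Set.mem_setOf_eq, val_coef]
        refine ⟨fun h x hx ξ hξ => (Submodule.mem_dualAnnihilator ξ).1 hξ _ ⟨f g x, h hx, rfl⟩, fun h x hx => ?_⟩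
        obtain ⟨y, hy, e⟩ : ptAct ρ g x.1 ∈ P' :=
          (Subspace.forall_mem_dualAnnihilator_apply_eq_zero_iff P' _).1 (h x hx)
        rw [Ideal.mem_comap, show f g x = y from Subtype.ext e.symm]
        exact hy
      rw [this]
      exact isClosed_iInter fun x => isClosed_iInter fun _ => isClosed_iInter fun ξ => isClosed_iInter fun _ =>
        BorelFix21.isClosed_val_eq _ _
    haveI : Finite {Q // Q ∈ minimalPrimes R} := (minimalPrimes.finite_of_isNoetherianRing R).to_subtype
    have hopen : IsOpen (S ⟨P, hP⟩) := by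
      rw [show S ⟨P, hP⟩ = (⋃ Q : {Q : {Q // Q ∈ minimalPrimes R} // Q ≠ ⟨P, hP⟩}, S Q.1)ᶜ from ?_]
      · exact (isClosed_iUnion_of_finite fun Q => hcl _).isOpen_compl
      · ext g
        simp only [Set.mem_compl_iff, Set.mem_iUnion, not_exists]
        refine ⟨fun h Q hQ => Q.2 (Subtype.ext ?_), fun h => ?_⟩
        · rw [(hS g Q.1).1 hQ, ← (hS g _).1 h]
        · by_contra hne
          let Q : {Q // Q ∈ minimalPrimes R} := ⟨_, hmin g P hP⟩
          have hQ : g ∈ S Q := (hS g Q).2 rfl
          by_cases e : Q = ⟨P, hP⟩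
          · exact hne (e ▸ hQ)
          · exact h ⟨Q, e⟩ hQ
    have huniv : S ⟨P, hP⟩ = Set.univ := IsClopen.eq_univ ⟨hcl _, hopen⟩ ⟨1, fun x hx => by
      show f 1 x ∈ P
      rwa [show f 1 x = x from Subtype.ext (by rw [hf, ptAct_one])]⟩
    exact fun g x hx => Set.eq_univ_iff_forall.1 huniv g hx
  let a' : R := ⟨a, Algebra.subset_adjoin (hsW a (by simp))⟩
  let b' : R := ⟨b, Algebra.subset_adjoin (hsW b (by simp))⟩
  have h0 : f g a' * f g' b' = 0 := by
    have h1 : f g a' * f g' b' ∈ sInf (minimalPrimes R) := by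
      refine Submodule.mem_sInf.2 fun (P : Ideal R) hP => ?_
      haveI := hP.1.1
      rcases Ideal.IsPrime.mem_or_mem ‹P.IsPrime› (show a' * b' ∈ P by
        rw [show a' * b' = 0 from Subtype.ext hab]; exact P.zero_mem) with h | h
      · exact P.mul_mem_right _ (hstab P hP g _ h)
      · exact P.mul_mem_left _ (hstab P hP g' _ h)
    have h2 : sInf (minimalPrimes R) = (⊥ : Ideal R).radical := Ideal.sInf_minimalPrimes
    rw [h2] at h1
    exact (IsNilpotent.eq_zero (by exact h1 :
      IsNilpotent (f g a' * f g' b')))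
  exact congrArg Subtype.val h0

include hρ in
/-- Zero divisors among the invariants. -/
theorem exists_fixed_zeroDivisor (hU : Red.HasNoSubtorus k U) {a b : A} (ha : a ≠ 0) (hb : b ≠ 0) (hab : a * b = 0) :
    ∃ v ∈ ρ.fixedUnder i, ∃ w ∈ ρ.fixedUnder i, v ≠ 0 ∧ w ≠ 0 ∧ v * w = 0 := by
  by_cases hred : IsReduced A
  · let Wa : A → Submodule k A := fun a => Submodule.span k (Set.range fun g => ptAct ρ g a)
    have hmem : ∀ a, a ∈ Wa a := fun a => Submodule.subset_span ⟨1, ptAct_one ρ a⟩
    have hst : ∀ a (g : VecGrp.pt k k ⟶ U), ∀ w ∈ Wa a, ptAct ρ (g ≫ i) w ∈ Wa a := fun a g => by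
      have : Wa a ≤ (Wa a).comap (actLin ρ (g ≫ i)) := Submodule.span_le.2 (by
        rintro _ ⟨h, rfl⟩
        exact Submodule.subset_span ⟨(g ≫ i) * h, ptAct_mul ρ _ _ _⟩)
      exact fun w hw => this hw
    obtain ⟨v, hv, hv0, hvf⟩ := exists_fixed_of_stable ρ hU i (hst a)
      fun e => ha (by simpa [e] using hmem a)
    obtain ⟨w, hw, hw0, hwf⟩ := exists_fixed_of_stable ρ hU i (hst b)
      fun e => hb (by simpa [e] using hmem b)
    refine ⟨v, hvf, w, hwf, hv0, hw0, ?_⟩
    have h1 := Submodule.mul_mem_mul hv hw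
    rw [Submodule.span_mul_span] at h1
    have : Submodule.span k ((Set.range fun g => ptAct ρ g a) * Set.range fun g => ptAct ρ g b) ≤ ⊥ :=
      Submodule.span_le.2 (by
        rintro _ ⟨_, ⟨g, rfl⟩, _, ⟨g', rfl⟩, rfl⟩
        exact ptAct_mul_eq_zero hρ hab g g')
    simpa using this h1
  · obtain ⟨v, hvf, hv0, m, hm⟩ := exists_fixed_nilpotent i hρ hU hred
    classical
    have hex : ∃ m, v ^ m = 0 := ⟨m, hm⟩
    have hspec := Nat.find_spec hex
    obtain ⟨l, hl⟩ : ∃ l, Nat.find hex = l + 1 := Nat.exists_eq_add_one.2 (Nat.pos_of_ne_zero fun e => by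
      rw [e, pow_zero] at hspec
      exact hv0 (eq_zero_of_zero_eq_one hspec.symm v))
    rw [hl, pow_succ'] at hspec
    exact ⟨v, hvf, v ^ l, show v ^ l ∈ ρ.fixedSubalgebra hρ i from Subalgebra.pow_mem _ hvf l, hv0,
      Nat.find_min hex (by omega), hspec⟩

end Groth.Agent.UMod21
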